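import Groth.Prelude.Def_PicGrp
import Groth.Agent.An92.Ample.Inverse
import Groth.Agent.Props58.PullTensor
import Groth.Agent.EGA73.Tensor

/-!
The Picard group law of every scheme, and pullback as a group homomorphism, for computing with
isomorphisms of tensor products of invertible modules.
-/

set_option autoImplicit false
set_option backward.isDefEq.respectTransparency.types false

noncomputable section

universe u

open CategoryTheory AlgebraicGeometry

namespace Groth.Agent.Cube7.PicCalc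

variable {X Y Z : Scheme.{u}}

/-- The product of two invertible classes. -/
def mulS (a b : PicLoc.PicSet Y) : PicLoc.PicSet Y :=
  ⟨PicGrp.mulCl a.1 b.1, by
    obtain ⟨L, hL, rfl⟩ := PicGrp.exists_eq_cls a
    obtain ⟨M, hM, rfl⟩ := PicGrp.exists_eq_cls b
    exact ⟨_, rfl, EGA73.isInvertible_tensorMod hL hM⟩⟩

theorem mulS_cls {L M : Y.Modules} (hL : PicF.IsInvertible L) (hM : PicF.IsInvertible M) :
    mulS (PicGrp.cls L hL) (PicGrp.cls M hM) = PicGrp.cls _ (EGA73.isInvertible_tensorMod hL hM) :=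
  Subtype.ext rfl

theorem mulS_assoc (a b c : PicLoc.PicSet Y) : mulS (mulS a b) c = mulS a (mulS b c) := by
  obtain ⟨L, hL, rfl⟩ := PicGrp.exists_eq_cls a
  obtain ⟨M, hM, rfl⟩ := PicGrp.exists_eq_cls b
  obtain ⟨N, hN, rfl⟩ := PicGrp.exists_eq_cls c
  rw [mulS_cls, mulS_cls, mulS_cls, mulS_cls, PicGrp.cls_eq_cls_iff]
  exact ⟨EGA73.tensAssoc' L M N⟩

theorem one_mulS (a : PicLoc.PicSet Y) : mulS (PicLoc.unitPicSet Y) a = a := by
  obtain ⟨L, hL, rfl⟩ := PicGrp.exists_eq_cls a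
  rw [PicGrp.unitPicSet_eq_cls, mulS_cls, PicGrp.cls_eq_cls_iff]
  exact ⟨EGA73.tensUnitLeft L⟩

theorem mulS_comm (a b : PicLoc.PicSet Y) : mulS a b = mulS b a := by
  obtain ⟨L, hL, rfl⟩ := PicGrp.exists_eq_cls a
  obtain ⟨M, hM, rfl⟩ := PicGrp.exists_eq_cls b
  rw [mulS_cls, mulS_cls, PicGrp.cls_eq_cls_iff]
  exact ⟨EGA73.tensComm L M⟩

theorem exists_invS (a : PicLoc.PicSet Y) : ∃ b, mulS b a = PicLoc.unitPicSet Y := by
  obtain ⟨L, hL, rfl⟩ := PicGrp.exists_eq_cls a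
  obtain ⟨N, hN, ⟨e⟩⟩ := An92.InvMod.exists_inverse hL
  refine ⟨PicGrp.cls N hN, ?_⟩
  rw [PicGrp.unitPicSet_eq_cls, mulS_cls, PicGrp.cls_eq_cls_iff]
  exact ⟨e⟩

/-- The Picard group law of every scheme. -/
instance law (Y : Scheme.{u}) : PicGrp.Law Y where
  mul := mulS
  one := PicLoc.unitPicSet Y
  inv a := (exists_invS a).choose
  mul_assoc := mulS_assoc
  one_mul := one_mulS
  mul_one a := (mulS_comm _ _).trans (one_mulS a)
  inv_mul_cancel a := (exists_invS a).choose_spec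
  mul_comm := mulS_comm
  mul_val _ _ := rfl
  one_eq := rfl

theorem pullMul (f : X ⟶ Y) : PicGrp.PullMul f := by
  rintro _ _ ⟨L, rfl, hL⟩ ⟨M, rfl, hM⟩
  exact (PicGrp.cl_eq_cl_iff _ _).2 (Props58.PullTensor.nonempty_pullTensIso f hL hM)

/-- Pullback of classes, as a homomorphism. -/
def pb (f : X ⟶ Y) : PicLoc.PicSet Y →* PicLoc.PicSet X := PicGrp.pullHom f (pullMul f)

theorem pb_cls (f : X ⟶ Y) {L : Y.Modules} (hL : PicF.IsInvertible L) :
    pb f (PicGrp.cls L hL) = PicGrp.cls _ (PicLoc.isInvertible_pullback f hL) :=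
  PicGrp.pullHom_cls f _ L hL

theorem pb_comp (f : X ⟶ Y) (g : Y ⟶ Z) (c : PicLoc.PicSet Z) : pb (f ≫ g) c = pb f (pb g c) :=
  PicGrp.pullHom_comp_apply f g _ _ _ c

theorem pb_id (c : PicLoc.PicSet Y) : pb (𝟙 Y) c = c := PicGrp.pullHom_id_apply _ c

theorem cls_tensor {L M : Y.Modules} (hL : PicF.IsInvertible L) (hM : PicF.IsInvertible M) :
    PicGrp.cls _ (EGA73.isInvertible_tensorMod hL hM) = PicGrp.cls L hL * PicGrp.cls M hM :=
  (mulS_cls hL hM).symm

theorem cls_tensorPow {L : Y.Modules} (hL : PicF.IsInvertible L) (n : ℕ) :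
    PicGrp.cls _ (EGA73.isInvertible_tensorPow hL n) = PicGrp.cls L hL ^ n :=
  Subtype.ext (PicGrp.cls_pow_val hL n).symm

theorem cls_congr {L M : Y.Modules} (hL : PicF.IsInvertible L) (e : L ≅ M) :
    PicGrp.cls L hL = PicGrp.cls M (EGA73.isInvertible_of_iso e hL) :=
  (PicGrp.cls_eq_cls_iff _ _).2 ⟨e⟩

end Groth.Agent.Cube7.PicCalc
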