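import Groth.Agent.Alb96.GeomInt
import Groth.Agent.AbSch7.PushO

/-!
An abelian scheme has geometrically integral fibres.
-/

set_option autoImplicit false
set_option backward.isDefEq.respectTransparency false

noncomputable section

universe u

open CategoryTheory CategoryTheory.Limits MonoidalCategory CartesianMonoidalCategory MonObj GrpObj AlgebraicGeometry

namespace Groth.Agent.Cube7

theorem geometricallyIntegral_of_group {S : Scheme.{u}} (X : Over S) [GrpObj X] [GeometricallyReduced X.hom]
    [GeometricallyConnected X.hom] : GeometricallyIntegral X.hom := by
  rw [GeometricallyIntegral.iff_geometricallyIntegral_fiber]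
  intro s
  let G : Over (Spec (CommRingCat.of (S.residueField s))) := (Over.pullback (S.fromSpecResidueField s)).obj X
  letI : GrpObj G := Functor.grpObjObj (F := Over.pullback (S.fromSpecResidueField s)) (G := X)
  haveI : GeometricallyReduced G.hom := inferInstanceAs (GeometricallyReduced (pullback.snd X.hom (S.fromSpecResidueField s)))
  haveI : ConnectedSpace G.left := inferInstanceAs (ConnectedSpace ↥(X.hom.fiber s))
  exact Alb96.geometricallyIntegral_of_connectedSpace G

end Groth.Agent.Cube7
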