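import Groth.Agent.Cube7.CubeGroup
import Groth.Agent.Small51.SemilocalPic

/-!
The Mumford bundle of a family of invertible modules on a group scheme: triviality on one fibre over a
connected parameter scheme gives global triviality.
-/

set_option autoImplicit false
set_option maxSynthPendingDepth 6
set_option linter.style.haveILetI false
set_option backward.isDefEq.respectTransparency.types false

noncomputable section

universe u

open CategoryTheory CategoryTheory.Limits MonoidalCategory CartesianMonoidalCategory MonObj GrpObj AlgebraicGeometry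
open Groth.Agent.Cube7.PicCalc

namespace Groth.Agent.Cube7

theorem pb_fromSpecResidueField {Y : Scheme.{u}} (y : Y) (c : PicLoc.PicSet Y) :
    pb (Y.fromSpecResidueField y) c = 1 := by
  obtain ⟨L, hL, rfl⟩ := PicGrp.exists_eq_cls c
  rw [pb_cls, PicGrp.cls_eq_one_iff]
  exact SemilocalPic51.nonempty_iso_unit (PicLoc.isInvertible_pullback _ hL) (Set.toFinite _)

theorem pb_fiberι_pb {P Y : Scheme.{u}} (q : P ⟶ Y) (y : Y) (c : PicLoc.PicSet Y) :
    pb (q.fiberι y) (pb q c) = 1 := by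
  rw [← pb_comp, q.fiber_fac y, pb_comp, pb_fromSpecResidueField, map_one]

variable {S : Scheme.{u}} (X T : Over S) [GrpObj X] (l : PicLoc.PicSet (X ⊗ T).left)

/-- The Mumford class of a family of invertible modules. -/
def mumford : PicLoc.PicSet ((X ⊗ X) ⊗ T).left :=
  pb (μ[X] ▷ T).left l *
      pb (snd (X ⊗ X) T).left (pb (CartesianMonoidalCategory.lift (toUnit T ≫ η[X]) (𝟙 T)).left l) /
    (pb (fst X X ▷ T).left l * pb (snd X X ▷ T).left l)

theorem pb_mumford {W : Over S} (g : W ⟶ (X ⊗ X) ⊗ T)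
    (h : g ≫ fst _ _ ≫ fst _ _ = 1 ∨ g ≫ fst _ _ ≫ snd _ _ = 1) : pb g.left (mumford X T l) = 1 := by
  have e0 : ∀ a : X ⊗ X ⟶ X, g ≫ (a ▷ T) = CartesianMonoidalCategory.lift (g ≫ fst _ _ ≫ a) (g ≫ snd _ _) := by
    intro a
    ext1 <;> simp
  have eμ : g ≫ fst _ _ ≫ μ[X] = (g ≫ fst _ _ ≫ fst _ _) * (g ≫ fst _ _ ≫ snd _ _) := by
    rw [Hom.mul_def, ← Category.assoc, ← Category.assoc, ← Category.assoc g (fst _ _) (snd X X),
      ← CartesianMonoidalCategory.comp_lift, lift_fst_snd, Category.comp_id]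
  have e1 : g ≫ snd (X ⊗ X) T ≫ CartesianMonoidalCategory.lift (toUnit T ≫ η[X]) (𝟙 T) =
      CartesianMonoidalCategory.lift 1 (g ≫ snd _ _) := by
    ext1
    · simp [Hom.one_def]
    · simp
  simp only [mumford, map_div, map_mul, ← pb_comp, ← Over.comp_left, e0, eμ, e1]
  rcases h with h | h <;> rw [h]
  · simp only [_root_.one_mul]
    rw [div_eq_one]; ac_rfl
  · simp only [_root_.mul_one]
    exact div_self' _

variable [IsProper X.hom] [Flat X.hom] [LocallyOfFinitePresentation X.hom] [GeometricallyIntegral X.hom]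

theorem mumford_eq_one [ConnectedSpace T.left] (t : T.left)
    (ht : pb ((snd (X ⊗ X) T).left.fiberι t) (pb (μ[X] ▷ T).left l) =
      pb ((snd (X ⊗ X) T).left.fiberι t) (pb (fst X X ▷ T).left l * pb (snd X X ▷ T).left l)) :
    mumford X T l = 1 := by
  obtain ⟨L, hL, hc⟩ := PicGrp.exists_eq_cls (mumford X T l)
  have key : ∀ {W : Scheme.{u}} (f : W ⟶ ((X ⊗ X) ⊗ T).left),
      (∀ g : Over.mk (f ≫ ((X ⊗ X) ⊗ T).hom) ⟶ (X ⊗ X) ⊗ T, g.left = f →
        g ≫ fst _ _ ≫ fst _ _ = 1 ∨ g ≫ fst _ _ ≫ snd _ _ = 1) →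
      Nonempty ((Scheme.Modules.pullback f).obj L ≅ Coh.structureModule W) := by
    intro W f i
    let g : Over.mk (f ≫ ((X ⊗ X) ⊗ T).hom) ⟶ (X ⊗ X) ⊗ T := Over.homMk f rfl
    have h : pb f (mumford X T l) = 1 := pb_mumford X T l g (i g rfl)
    rwa [hc, pb_cls, PicGrp.cls_eq_one_iff] at h
  let D₀ := Cube73.unitDatum X.hom X.hom η[X].left (unit_hom X) η[X].left (unit_hom X)
  have h₁ : Nonempty ((Scheme.Modules.pullback (Cube73.Datum.bcHom T.hom D₀.ix D₀.ix_q)).obj L ≅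
      Coh.structureModule _) := key _ fun g hg => Or.inl (Over.OverMorphism.ext (by
    rw [Over.comp_left, Over.comp_left, hg, one_left]
    show Cube73.Datum.bcHom T.hom D₀.ix D₀.ix_q ≫ pullback.fst D₀.q T.hom ≫ D₀.a =
      (Cube73.Datum.bcHom T.hom D₀.ix D₀.ix_q ≫ pullback.fst D₀.q T.hom ≫ D₀.q) ≫ η[X].left
    rw [reassoc_of% Cube73.Datum.bcHom_fst T.hom D₀.ix D₀.ix_q, D₀.hix,
      reassoc_of% Cube73.Datum.bcHom_fst T.hom D₀.ix D₀.ix_q, D₀.ix_q, ← Category.assoc]))
  have h₂ : Nonempty ((Scheme.Modules.pullback (Cube73.Datum.bcHom T.hom D₀.iy D₀.iy_q)).obj L ≅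
      Coh.structureModule _) := key _ fun g hg => Or.inr (Over.OverMorphism.ext (by
    rw [Over.comp_left, Over.comp_left, hg, one_left]
    show Cube73.Datum.bcHom T.hom D₀.iy D₀.iy_q ≫ pullback.fst D₀.q T.hom ≫ D₀.b =
      (Cube73.Datum.bcHom T.hom D₀.iy D₀.iy_q ≫ pullback.fst D₀.q T.hom ≫ D₀.q) ≫ η[X].left
    rw [reassoc_of% Cube73.Datum.bcHom_fst T.hom D₀.iy D₀.iy_q, D₀.hiy,
      reassoc_of% Cube73.Datum.bcHom_fst T.hom D₀.iy D₀.iy_q, D₀.iy_q, ← Category.assoc]))
  have h₃ : Nonempty ((Scheme.Modules.pullback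
      ((pullback.snd (pullback.fst X.hom X.hom ≫ X.hom) T.hom).fiberι t)).obj L ≅ Coh.structureModule _) := by
    refine (PicGrp.cls_eq_one_iff (PicLoc.isInvertible_pullback _ hL)).1 ?_
    rw [← pb_cls _ hL, ← hc]
    show pb ((snd (X ⊗ X) T).left.fiberι t) (mumford X T l) = 1
    rw [mumford, map_div, map_mul, pb_fiberι_pb, ht, _root_.mul_one, div_self']
  rw [hc, PicGrp.cls_eq_one_iff]
  exact (Cube73.tripleDatum X.hom X.hom η[X].left (unit_hom X) η[X].left (unit_hom X) T.hom L hL h₁ h₂).trivial_of_connected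
    (inferInstanceAs (GeometricallyIntegral (pullback.snd X.hom T.hom)))
    (inferInstanceAs (GeometricallyIntegral (pullback.snd X.hom T.hom)))
    ⟨t, Cube73.triple_trivAt X.hom X.hom η[X].left (unit_hom X) η[X].left (unit_hom X) T.hom L hL h₁ h₂ h₃⟩

end Groth.Agent.Cube7
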