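import Groth.Agent.Cube73.Dichotomy
import Groth.Agent.AbSch7.NoethH0

/-!
For a proper flat morphism with geometrically integral fibres over a locally Noetherian base, the locus
of points over which an invertible module is trivial on the fibre is closed.
-/

set_option autoImplicit false
set_option maxSynthPendingDepth 6
set_option linter.style.haveILetI false
set_option backward.isDefEq.respectTransparency.types false

noncomputable section

universe u

open CategoryTheory Limits AlgebraicGeometry TopologicalSpace Opposite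
open Groth.Agent.Cube73

namespace Groth.Agent.Cube7

variable {X Y : Scheme.{u}} (f : X ⟶ Y) [IsProper f] [Flat f]
  (hint : ∀ y : Y, IsIntegral (f.fiber y))
  (hfld : ∀ y : Y, IsField Γ(f.fiber y, ⊤))

include hint hfld in
theorem trivFib_iff {L N : X.Modules} (hL : PicF.IsInvertible L) (hN : PicF.IsInvertible N)
    (e : CohB1.tensorMod L N ≅ Coh.structureModule X) (y : Y) :
    Nonempty ((Scheme.Modules.pullback (f.fiberι y)).obj L ≅ Coh.structureModule (f.fiber y)) ↔
      ¬ NoSec f L y ∧ ¬ NoSec f N y := by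
  let ι := f.fiberι y
  haveI := hint y
  have hL' := Amp73.isInvertible_pullback ι hL
  have hN' := Amp73.isInvertible_pullback ι hN
  haveI := Amp73.isIso_pullTensHom ι hL hN
  let e' : CohB1.tensorMod ((Scheme.Modules.pullback ι).obj L) ((Scheme.Modules.pullback ι).obj N) ≅
      Coh.structureModule (f.fiber y) :=
    (asIso (Amp73.pullTensHom ι L N)).symm ≪≫ (Scheme.Modules.pullback ι).mapIso e ≪≫ PicLoc.pullbackStructureIso ι
  constructor
  · rintro ⟨i⟩
    refine ⟨fun h => (not_nontrivial_iff_subsingleton.2 h) (nontrivial_of_iso i), fun h => ?_⟩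
    have e2 : (Scheme.Modules.pullback ι).obj N ≅ Coh.structureModule (f.fiber y) :=
      (EGA73.tensUnitLeft _).symm ≪≫ (EGA73.tensIso i (Iso.refl _)).symm ≪≫ e'
    exact (not_nontrivial_iff_subsingleton.2 h) (nontrivial_of_iso e2)
  · rintro ⟨h1, h2⟩
    obtain ⟨s, hs⟩ := @exists_ne _ (not_subsingleton_iff_nontrivial.1 h1) (0 : Γ((Scheme.Modules.pullback ι).obj L, ⊤))
    obtain ⟨t, ht⟩ := @exists_ne _ (not_subsingleton_iff_nontrivial.1 h2) (0 : Γ((Scheme.Modules.pullback ι).obj N, ⊤))
    exact iso_of_sections (hfld y) hL' hN' e' hs ht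

include hint hfld in
theorem isClosed_trivFib [IsLocallyNoetherian Y] {L : X.Modules} (hL : PicF.IsInvertible L) :
    IsClosed {y : Y | Nonempty ((Scheme.Modules.pullback (f.fiberι y)).obj L ≅ Coh.structureModule (f.fiber y))} := by
  obtain ⟨N, hN, ⟨e₀⟩⟩ := An92.InvMod.exists_inverse hL
  have e : CohB1.tensorMod L N ≅ Coh.structureModule X := EGA73.tensComm _ _ ≪≫ e₀
  have : {y : Y | Nonempty ((Scheme.Modules.pullback (f.fiberι y)).obj L ≅ Coh.structureModule (f.fiber y))} =
      ({y | NoSec f L y} ∪ {y | NoSec f N y})ᶜ := by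
    ext y
    exact (trivFib_iff f hint hfld hL hN e y).trans (not_or.symm)
  rw [this]
  exact ((isOpen_noSec f hL).union (isOpen_noSec f hN)).isClosed_compl

theorem isField_Γ_fiber {f : X ⟶ Y} (h0 : AbSch7.H0Fib f) (y : Y) : IsField Γ(f.fiber y, ⊤) :=
  (RingEquiv.ofBijective _ (h0 (Y.residueField y) (Y.fromSpecResidueField y))).symm.toMulEquiv.isField
    (isField_Γ (Field.toIsField (Y.residueField y)))

end Groth.Agent.Cube7
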