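import Groth.Agent.Cube7.Extend
import Mathlib.RingTheory.LocalProperties.Reduced
import Mathlib.RingTheory.Nilpotent.Lemmas
import Mathlib.RingTheory.Spectrum.Prime.Basic

/-! Finite modules with at most one-dimensional fibres: a local generator, and over a reduced ring a map to the
ring which does not vanish at the point. -/

set_option autoImplicit false

universe u

open TensorProduct IsLocalRing

namespace Groth.Agent.Cube7

variable {A : Type u} [CommRing A] {Q : Type u} [AddCommGroup Q] [Module A Q]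

/-- A local generator at `p`. -/
theorem exists_gen_at [Module.Finite A Q] (p : Ideal A) [p.IsPrime] (K : Type u) [Field K] [Algebra A K]
    (hK : RingHom.ker (algebraMap A K) = p) (φ₀ : Q →ₗ[A] K) (q₀ : Q) (hq : φ₀ q₀ ≠ 0)
    (h1 : ∀ φ : Q →ₗ[A] K, ∃ c : K, φ = c • φ₀) :
    ∀ x : Q, ∃ u ∉ p, ∃ b : A, u • x = b • q₀ := by
  let R := Localization.AtPrime p
  let N := Q ⧸ (A ∙ q₀)
  let NR := R ⊗[A] N
  have hu : ∀ y : p.primeCompl, IsUnit (algebraMap A K y) := fun y =>
    isUnit_iff_ne_zero.2 fun h => y.2 (hK ▸ h : (y : A) ∈ p)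
  let ι₀ : R →+* K := IsLocalization.lift hu
  have hι₀ : ∀ a : A, ι₀ (algebraMap A R a) = algebraMap A K a := IsLocalization.lift_eq hu
  haveI : IsLocalHom ι₀ := ⟨fun r hr => by
    obtain ⟨⟨a, s⟩, rfl⟩ := IsLocalization.mk'_surjective p.primeCompl r
    refine (IsLocalization.AtPrime.isUnit_mk'_iff R p a s).2 fun ha => ?_
    refine (isUnit_iff_ne_zero.1 hr) ?_
    rw [IsLocalization.lift_mk'_spec, mul_zero]
    exact (RingHom.mem_ker (f := algebraMap A K)).1 (hK.symm ▸ ha)⟩
  have hN : Subsingleton NR := by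
    let W := maximalIdeal R • (⊤ : Submodule R NR)
    suffices hW : W = ⊤ by
      have := Submodule.eq_bot_of_le_smul_of_le_jacobson_bot (maximalIdeal R) (⊤ : Submodule R NR)
        Module.Finite.fg_top hW.ge (IsLocalRing.maximalIdeal_le_jacobson ⊥)
      exact subsingleton_of_forall_eq 0 fun y => (Submodule.mem_bot R).1 (this ▸ Submodule.mem_top)
    by_contra hne
    obtain ⟨y₀, hy₀⟩ : ∃ y : NR, y ∉ W := by
      by_contra h
      push Not at h
      exact hne (eq_top_iff.2 fun y _ => h y)
    let V := NR ⧸ W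
    have hmV : ∀ r ∈ maximalIdeal R, ∀ y : V, r • y = 0 := by
      intro r hr y
      obtain ⟨y, rfl⟩ := W.mkQ_surjective y
      rw [← map_smul, Submodule.mkQ_apply, Submodule.Quotient.mk_eq_zero]
      exact Submodule.smul_mem_smul hr Submodule.mem_top
    letI : Module (R ⧸ maximalIdeal R) V := Module.IsTorsionBySet.module (fun y r => hmV r r.2 y)
    letI : Module (ResidueField R) V := inferInstanceAs (Module (R ⧸ maximalIdeal R) V)
    haveI : IsScalarTower R (ResidueField R) V :=
      IsScalarTower.of_algebraMap_smul fun r y => Module.IsTorsionBySet.mk_smul (fun y r => hmV r r.2 y) r y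
    obtain ⟨μ, hμ⟩ : ∃ μ : V →ₗ[ResidueField R] ResidueField R, μ (W.mkQ y₀) ≠ 0 := by
      by_contra h
      push Not at h
      exact hy₀ ((Submodule.Quotient.mk_eq_zero W).1 ((Module.forall_dual_apply_eq_zero_iff (ResidueField R) _).1 h))
    let e : ResidueField R →+* K := IsLocalRing.ResidueField.lift ι₀
    let μR : NR →ₗ[R] ResidueField R := (μ.restrictScalars R).comp W.mkQ
    let ψ : Q →ₗ[A] K :=
      { toFun := fun x => e (μR (1 ⊗ₜ[A] Submodule.Quotient.mk x))
        map_add' := fun x y => by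
          rw [Submodule.Quotient.mk_add, TensorProduct.tmul_add, map_add, map_add]
        map_smul' := fun a x => by
          rw [Submodule.Quotient.mk_smul, TensorProduct.tmul_smul,
            show a • ((1 : R) ⊗ₜ[A] (Submodule.Quotient.mk x : N)) = algebraMap A R a • _ from
              (algebraMap_smul R a _).symm, map_smul, RingHom.id_apply]
          show e (algebraMap A R a • μR _) = _
          rw [Algebra.smul_def, map_mul, Algebra.smul_def]
          congr 1
          show e (residue R (algebraMap A R a)) = _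
          rw [IsLocalRing.ResidueField.lift_residue_apply, hι₀] }
    obtain ⟨c, hc⟩ := h1 ψ
    have hc0 : c = 0 := by
      have h0 : ψ q₀ = 0 := by
        show e (μR (1 ⊗ₜ[A] Submodule.Quotient.mk q₀)) = 0
        rw [(Submodule.Quotient.mk_eq_zero _).2 (Submodule.mem_span_singleton_self q₀), TensorProduct.tmul_zero,
          map_zero, map_zero]
      rw [hc] at h0
      exact (mul_eq_zero.1 h0).resolve_right hq
    refine hμ ?_
    have hall : μR = 0 := by
      refine TensorProduct.AlgebraTensorModule.ext fun r n => ?_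
      obtain ⟨x, rfl⟩ := Submodule.Quotient.mk_surjective _ n
      rw [← mul_one r, ← smul_eq_mul, ← smul_tmul', map_smul, LinearMap.zero_apply]
      have h2 : e (μR (1 ⊗ₜ[A] Submodule.Quotient.mk x)) = 0 := by
        show ψ x = 0
        rw [hc, hc0, zero_smul, LinearMap.zero_apply]
      rw [(map_eq_zero e).1 h2, smul_zero]
    exact LinearMap.congr_fun hall y₀
  intro x
  have hloc : IsLocalizedModule p.primeCompl (TensorProduct.mk A R N 1) :=
    (isLocalizedModule_iff_isBaseChange p.primeCompl R _).2 (TensorProduct.isBaseChange A N R)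
  have h0 : TensorProduct.mk A R N 1 (Submodule.Quotient.mk x) = 0 := Subsingleton.elim _ _
  obtain ⟨⟨u, hu'⟩, h⟩ := (IsLocalizedModule.eq_zero_iff p.primeCompl (TensorProduct.mk A R N 1)).1 h0
  have h2 : u • x ∈ A ∙ q₀ := by
    rw [← Submodule.Quotient.mk_eq_zero, Submodule.Quotient.mk_smul]
    exact h
  obtain ⟨b, hb⟩ := Submodule.mem_span_singleton.1 h2
  exact ⟨u, hu', b, hb.symm⟩

/-- A local generator makes the fibres at generalisations at most one-dimensional. -/
theorem multiples_of_gen (p : Ideal A) (q₀ : Q) (hgen : ∀ x : Q, ∃ u ∉ p, ∃ b : A, u • x = b • q₀)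
    (K : Type u) [Field K] [Algebra A K] (hK : RingHom.ker (algebraMap A K) ≤ p) :
    (∀ φ : Q →ₗ[A] K, φ q₀ = 0 → φ = 0) := by
  intro φ h0
  ext x
  obtain ⟨u, hu, b, hb⟩ := hgen x
  have h1 := congrArg φ hb
  rw [map_smul, map_smul, h0, smul_zero, Algebra.smul_def, mul_eq_zero] at h1
  exact h1.resolve_left fun h => hu (hK h)

theorem multiples_of_gen' (p : Ideal A) (q₀ : Q) (hgen : ∀ x : Q, ∃ u ∉ p, ∃ b : A, u • x = b • q₀)
    (K : Type u) [Field K] [Algebra A K] (hK : RingHom.ker (algebraMap A K) ≤ p) (φ₁ : Q →ₗ[A] K)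
    (h : φ₁ ≠ 0) (φ : Q →ₗ[A] K) : ∃ c : K, φ = c • φ₁ := by
  have h2 : φ₁ q₀ ≠ 0 := fun h0 => h (multiples_of_gen p q₀ hgen K hK φ₁ h0)
  refine ⟨φ q₀ / φ₁ q₀, sub_eq_zero.1 (multiples_of_gen p q₀ hgen K hK _ ?_)⟩
  rw [LinearMap.sub_apply, LinearMap.smul_apply, smul_eq_mul, div_mul_cancel₀ _ h2, sub_self]

/-- Over a reduced ring, with non-vanishing fibres at the generalisations. -/
theorem exists_hom_reduced [IsReduced A] [Module.FinitePresentation A Q] (p : Ideal A) [p.IsPrime] (q₀ : Q)
    (hgen : ∀ x : Q, ∃ u ∉ p, ∃ b : A, u • x = b • q₀)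
    (hfib : ∀ q : Ideal A, q.IsPrime → q ≤ p → ∃ (K : Type u) (_ : Field K) (_ : Algebra A K),
      RingHom.ker (algebraMap A K) = q ∧ ∃ φ : Q →ₗ[A] K, φ ≠ 0) :
    ∃ φ : Q →ₗ[A] A, φ q₀ ∉ p := by
  let R := Localization.AtPrime p
  have : IsReduced R := inferInstanceAs (IsReduced (Localization p.primeCompl))
  have key : ∀ a : A, (∃ u ∉ p, u • a • q₀ = 0) → algebraMap A R a = 0 := by
    rintro a ⟨u, hu, ha⟩
    refine IsNilpotent.eq_zero ?_
    rw [nilpotent_iff_mem_prime]
    intro J hJ
    have hq : (J.comap (algebraMap A R)).IsPrime := Ideal.IsPrime.comap _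
    have hle : J.comap (algebraMap A R) ≤ p := by
      intro z hz
      by_contra hzp
      exact hJ.ne_top (Ideal.eq_top_of_isUnit_mem _ hz (IsLocalization.map_units R (⟨z, hzp⟩ : p.primeCompl)))
    obtain ⟨K, _, _, hker, φ, hφ⟩ := hfib _ hq hle
    have h1 := congrArg φ ha
    rw [map_smul, map_smul, map_zero, Algebra.smul_def, Algebra.smul_def, mul_eq_zero, mul_eq_zero] at h1
    rcases h1 with h | h | h
    · exact absurd (hle (hker.le h)) hu
    · exact hker.le h
    · exact absurd (multiples_of_gen p q₀ hgen K (hker.le.trans hle) φ h) hφ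
  choose u hu b hb using hgen
  have keq : ∀ (x : Q) (v : A) (c : A), v ∉ p → v • x = c • q₀ →
      algebraMap A R (b x) * algebraMap A R v = algebraMap A R c * algebraMap A R (u x) := by
    intro x v c hv h
    rw [← map_mul, ← map_mul, ← sub_eq_zero, ← map_sub]
    refine key _ ⟨1, fun h1 => (inferInstance : p.IsPrime).ne_top (p.eq_top_iff_one.2 h1), ?_⟩
    rw [one_smul, sub_smul, mul_comm (b x), mul_comm c, mul_smul, mul_smul, ← hb, ← h, smul_smul, smul_smul,
      mul_comm, sub_self]
  let g₀ : Q → R := fun x => IsLocalization.mk' R (b x) (⟨u x, hu x⟩ : p.primeCompl)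
  have hg₀ : ∀ (x : Q) (v c : A), v ∉ p → v • x = c • q₀ → g₀ x * algebraMap A R v = algebraMap A R c := by
    intro x v c hv h
    refine (IsLocalization.map_units R (⟨u x, hu x⟩ : p.primeCompl)).mul_left_cancel ?_
    rw [← mul_assoc, mul_comm (algebraMap A R _), IsLocalization.mk'_spec, keq x v c hv h, mul_comm]
  have hne : ∀ {v w : A}, v ∉ p → w ∉ p → v * w ∉ p := fun hv hw h =>
    ((inferInstance : p.IsPrime).mem_or_mem h).elim hv hw
  let g : Q →ₗ[A] R :=
    { toFun := g₀
      map_add' := fun x y => by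
        refine (IsLocalization.map_units R (⟨_, hne (hu x) (hu y)⟩ : p.primeCompl)).mul_right_cancel ?_
        rw [hg₀ (x + y) (u x * u y) (u y * b x + u x * b y) (hne (hu x) (hu y)) (by
            simp only [add_smul, smul_add, mul_smul, ← hb]
            rw [smul_comm (u y) (u x)]),
          add_mul, hg₀ x (u x * u y) (u y * b x) (hne (hu x) (hu y)) (by
            rw [mul_comm, mul_smul, hb x, smul_smul]),
          hg₀ y (u x * u y) (u x * b y) (hne (hu x) (hu y)) (by rw [mul_smul, hb y, smul_smul]), map_add]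
      map_smul' := fun a x => by
        refine (IsLocalization.map_units R (⟨_, hu x⟩ : p.primeCompl)).mul_right_cancel ?_
        rw [RingHom.id_apply, hg₀ (a • x) (u x) (a * b x) (hu x) (by rw [smul_comm, hb x, smul_smul]),
          smul_mul_assoc, hg₀ x (u x) (b x) (hu x) (hb x), Algebra.smul_def, map_mul] }
  have hgq : g q₀ = 1 := by
    have h := hg₀ q₀ 1 1 (fun h1 => (inferInstance : p.IsPrime).ne_top (p.eq_top_iff_one.2 h1)) rfl
    rwa [map_one, mul_one] at h
  obtain ⟨h, s, hs⟩ := Module.FinitePresentation.exists_lift_of_isLocalizedModule p.primeCompl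
    (Algebra.linearMap A R) g
  refine ⟨h, fun hp => ?_⟩
  have e : algebraMap A R (h q₀) = algebraMap A R s := by
    have := LinearMap.congr_fun hs q₀
    simp only [LinearMap.comp_apply, Algebra.linearMap_apply, _root_.smul_apply, hgq] at this
    rw [this]
    show (s : A) • g q₀ = _
    rw [hgq, Algebra.smul_def, mul_one]
  exact s.2 ((IsLocalization.AtPrime.to_map_mem_maximal_iff R p (s : A)).1
    (e ▸ (IsLocalization.AtPrime.to_map_mem_maximal_iff R p (h q₀)).2 hp))

end Groth.Agent.Cube7
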