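import Groth.Agent.Cube7.Sections
import Groth.Agent.AbVar93.TrivDescent
import Groth.Agent.Amp73.Gen
import Groth.Agent.Mum71.BaseChange
import Groth.Agent.Mero90.Frames
import Groth.Agent.Props58.PullTensor
import Groth.Agent.AbSch7.FieldH0
import Groth.Agent.LimTop61.PullSec

/-! Families with coefficients in an algebra are global sections on the base change; over a field where the
module becomes trivial, sections not vanishing on the fibre generate. -/

set_option autoImplicit false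
set_option maxSynthPendingDepth 6
set_option synthInstance.maxHeartbeats 200000
set_option linter.style.haveILetI false
set_option backward.isDefEq.respectTransparency.types false

universe u

noncomputable section

open CategoryTheory CategoryTheory.Limits AlgebraicGeometry TopologicalSpace Opposite TensorProduct

namespace Groth.Agent.Cube7

open QC70 FF71 Mum71 QCPull72 Var76.LineBundle

variable {A : Type u} [CommRing A] {X : Scheme.{u}} [X.Over (Spec (CommRingCat.of A))]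
  (F : X.Modules) [F.IsQuasicoherent] {ι : Type u} {U : ι → X.Opens} (B : Type u) [CommRing B] [Algebra A B]

lemma bcMap_res {V W : X.Opens} (hV : IsAffineOpen V) (hW : IsAffineOpen W) (h : W ≤ V)
    (z : Γ(F, V) ⊗[A] B) :
    bcMap F B hW (rfl : bcπ A X B ⁻¹ᵁ W = _) (resT F h B z) =
      QC70.res (bcMod (A := A) F B) ((bcπ A X B).preimage_mono h)
        (bcMap F B hV (rfl : bcπ A X B ⁻¹ᵁ V = _) z) := by
  induction z using TensorProduct.induction_on with
  | zero => simp only [map_zero]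
  | add a b ha hb => simp only [map_add, ha, hb, QC70.res]
  | tmul x b =>
    show bcMap F B hW rfl (QC70.res F h x ⊗ₜ b) = _
    rw [bcMap_tmul, bcMap_tmul, QC70.res_smul, resO_rA, LimTop61.unitSec_res]

variable (hU : ⨆ i, U i = ⊤) (hU₁ : ∀ i, IsAffineOpen (U i)) (hU₂ : ∀ i j, IsAffineOpen (U i ⊓ U j))

include hU hU₁ hU₂ in
/-- Families are global sections of the base change. -/
theorem exists_famEquiv :
    ∃ E : Fam A F U B → Γ(bcMod (A := A) F B, ⊤), Function.Bijective E ∧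
      ∀ z i, QC70.res (bcMod (A := A) F B) le_top (E z) =
        bcMap F B (hU₁ i) (rfl : bcπ A X B ⁻¹ᵁ U i = _) (z.1 i) := by
  let T := bc A X B
  let π := bcπ A X B
  let G := bcMod (A := A) F B
  let S : TopCat.Sheaf AddCommGrpCat.{u} T := ⟨G.presheaf, G.isSheaf⟩
  have hcov : (⊤ : T.Opens) ≤ ⨆ i, π ⁻¹ᵁ U i := by rw [← Scheme.Hom.preimage_iSup, hU]; rfl
  have hex : ∀ z : Fam A F U B, ∃ s : Γ(G, ⊤), ∀ i, QC70.res G le_top s =
      bcMap F B (hU₁ i) (rfl : π ⁻¹ᵁ U i = _) (z.1 i) := fun z => by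
    obtain ⟨s, hs, -⟩ := TopCat.Sheaf.existsUnique_gluing' S (fun i => π ⁻¹ᵁ U i) ⊤ (fun _ => homOfLE le_top)
      hcov (fun i => bcMap F B (hU₁ i) (rfl : π ⁻¹ᵁ U i = _) (z.1 i)) (fun i j => by
        show QC70.res G (π.preimage_mono (inf_le_left : U i ⊓ U j ≤ U i)) _ =
          QC70.res G (π.preimage_mono (inf_le_right : U i ⊓ U j ≤ U j)) _
        rw [← bcMap_res F B (hU₁ i) (hU₂ i j) inf_le_left, ← bcMap_res F B (hU₁ j) (hU₂ i j) inf_le_right,
          z.2 i j])
    exact ⟨s, hs⟩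
  choose E hE using hex
  refine ⟨E, ⟨fun z z' h => Subtype.ext (funext fun i => (bcMap_bijective F B (hU₁ i) rfl).1 ?_), fun s => ?_⟩, hE⟩
  · rw [← hE z i, ← hE z' i, h]
  · choose x hx using fun i => (bcMap_bijective F B (hU₁ i) (rfl : π ⁻¹ᵁ U i = _)).2 (QC70.res G le_top s)
    have hx' : x ∈ Fam A F U B := fun i j => by
      apply (bcMap_bijective F B (hU₂ i j) rfl).1
      rw [bcMap_res F B (hU₁ i) (hU₂ i j) inf_le_left, bcMap_res F B (hU₁ j) (hU₂ i j) inf_le_right, hx, hx,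
        QC70.res_res, QC70.res_res]
    refine ⟨⟨x, hx'⟩, TopCat.Sheaf.eq_of_locally_eq' S (fun i => π ⁻¹ᵁ U i) ⊤ (fun _ => homOfLE le_top) hcov _ _
      fun i => ?_⟩
    exact (hE ⟨x, hx'⟩ i).trans (hx i)

variable {B}

lemma bcMap_mulLeft {V : X.Opens} (hV : IsAffineOpen V) (b : B) (w : Γ(F, V) ⊗[A] B) :
    bcMap F B hV (rfl : bcπ A X B ⁻¹ᵁ V = _) ((LinearMap.mulLeft A b).lTensor _ w) =
      rA B (bc A X B) (bcπ A X B ⁻¹ᵁ V) b • bcMap F B hV (rfl : bcπ A X B ⁻¹ᵁ V = _) w := by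
  induction w using TensorProduct.induction_on with
  | zero => simp only [map_zero, smul_zero]
  | add x y hx hy => simp only [map_add, smul_add, hx, hy]
  | tmul x b' =>
    rw [LinearMap.lTensor_tmul, LinearMap.mulLeft_apply, bcMap_tmul, bcMap_tmul, map_mul, mul_smul]

omit hU hU₁ hU₂ [F.IsQuasicoherent] in
/-- A section which becomes a frame after a base change generates at the image points. -/
theorem mem_genLocus_of_frame {L : X.Modules} (hL : PicF.IsInvertible L) {T : Scheme.{u}} (π : T ⟶ X)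
    (t : Γ(L, ⊤)) (ht : IsFrame ((Scheme.Modules.pullback π).obj L) (π ⁻¹ᵁ ⊤) (Amp73.pullS π L ⊤ t)) (ξ : T) :
    π ξ ∈ CohB1.genLocus L (EGA73.unitHom L t) := by
  obtain ⟨W, hξW, -, g, hg⟩ := Mero90.exists_affine_frame hL (π ξ) ⊤ trivial
  obtain ⟨c, hc⟩ := Amp73.exists_coord (EGA73.unitHom L t) hg
  have hval : Var76.ZeroScheme.val L (EGA73.unitHom L t) W.1 = Var76.LineBundle.res L le_top t := by
    refine (EGA73.unitHom_app L t W.1 1).trans ?_
    rw [one_smul]
  have h1 : IsFrame ((Scheme.Modules.pullback π).obj L) (π ⁻¹ᵁ W.1)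
      (Var76.LineBundle.res _ (π.preimage_mono le_top) (Amp73.pullS π L ⊤ t)) := ht.res _
  rw [Amp73.res_pullS π L (le_top : W.1 ≤ ⊤), ← hval, ← hc, Amp73.pullS_smul] at h1
  have h2 := (Amp73.isFrame_smul_iff (Props58.PullTensor.isFrame_pullS π hg) _).1 h1
  have h3 : ξ ∈ π ⁻¹ᵁ X.basicOpen c := by
    rw [Scheme.preimage_basicOpen, Scheme.basicOpen_of_isUnit _ h2]
    exact hξW
  rw [← Amp73.genLocus_inf_eq_basicOpen _ hg hc] at h3
  exact h3.1

variable (K : Type u) [Field K] [Algebra A K]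

include hU hU₁ hU₂ in
/-- Over a field where the module becomes trivial with constant functions. -/
theorem exists_fibre_gen (hF : PicF.IsInvertible F)
    (h0 : Function.Bijective (bc A X K ↘ Spec (CommRingCat.of K)).appTop)
    (e : bcMod (A := A) F K ≅ Coh.structureModule (bc A X K)) :
    ∃ xb : Fam A F U K, (Nonempty (bc A X K) → xb ≠ 0) ∧
      (∀ z : Fam A F U K, ∃ k : K, z = famMap F U (LinearMap.mulLeft A k) xb) ∧
      ∀ (t : Γ(F, ⊤)) (k : K), k ≠ 0 →
        (∀ i, QC70.res F (le_top : U i ≤ ⊤) t ⊗ₜ (1 : K) = (famMap F U (LinearMap.mulLeft A k) xb).1 i) →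
        ∀ ξ : bc A X K, bcπ A X K ξ ∈ CohB1.genLocus F (EGA73.unitHom F t) := by
  let T := bc A X K
  let π := bcπ A X K
  let G := bcMod (A := A) F K
  let S : TopCat.Sheaf AddCommGrpCat.{u} T := ⟨G.presheaf, G.isSheaf⟩
  have hcov : (⊤ : T.Opens) ≤ ⨆ i, π ⁻¹ᵁ U i := by rw [← Scheme.Hom.preimage_iSup, hU]; rfl
  obtain ⟨E, hE, hEres⟩ := exists_famEquiv (A := A) F K hU hU₁ hU₂
  let e₀ : Γ(G, ⊤) := e.inv.app ⊤ (show Γ(Coh.structureModule T, ⊤) from (1 : Γ(T, ⊤)))
  have he₀ : e.hom.app ⊤ e₀ = (show Γ(Coh.structureModule T, ⊤) from (1 : Γ(T, ⊤))) :=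
    ConcreteCategory.congr_hom (congrArg (fun q => Scheme.Modules.Hom.app q ⊤) e.inv_hom_id) _
  have hfr : IsFrame G ⊤ e₀ := AbVar93.isFrame_of_iso_unit e e₀ (by rw [he₀]; exact isUnit_one)
  obtain ⟨xb, hxb⟩ := hE.2 e₀
  have hEmul : ∀ (k : K) (z : Fam A F U K), E (famMap F U (LinearMap.mulLeft A k) z) = rA K T ⊤ k • E z := by
    intro k z
    refine TopCat.Sheaf.eq_of_locally_eq' S (fun i => π ⁻¹ᵁ U i) ⊤ (fun _ => homOfLE le_top) hcov _ _ fun i => ?_
    show QC70.res G le_top (E _) = QC70.res G le_top (rA K T ⊤ k • E z)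
    rw [QC70.res_smul, resO_rA, hEres, hEres]
    exact bcMap_mulLeft F (hU₁ i) k (z.1 i)
  refine ⟨xb, fun ⟨ξ⟩ hxb0 => ?_, fun z => ?_, fun t k hk ht ξ => ?_⟩
  · have h1 : e₀ = 0 := by
      refine TopCat.Sheaf.eq_of_locally_eq' S (fun i => π ⁻¹ᵁ U i) ⊤ (fun _ => homOfLE le_top) hcov _ _ fun i => ?_
      show QC70.res G le_top e₀ = QC70.res G le_top 0
      rw [← hxb, hEres, hxb0]
      exact (map_zero _).trans (map_zero (G.presheaf.map (homOfLE (le_top : π ⁻¹ᵁ U i ≤ ⊤)).op).hom).symm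
    have h2 : (0 : Γ(T, ⊤)) = 1 := by
      rw [h1, map_zero] at he₀
      exact he₀
    haveI : Nonempty (⊤ : T.Opens) := ⟨⟨ξ, trivial⟩⟩
    exact zero_ne_one h2
  · obtain ⟨c, hc⟩ := (hfr ⊤ le_rfl).2 (E z)
    obtain ⟨c', hc'⟩ := h0.2 c
    refine ⟨(Scheme.ΓSpecIso (CommRingCat.of K)).hom c', hE.1 ?_⟩
    rw [hEmul, hxb]
    refine hc.symm.trans ?_
    dsimp only
    rw [Amp73.res_self, ← hc']
    congr 1
    have h1 := congrArg (fun φ => φ ((Scheme.ΓSpecIso (CommRingCat.of K)).hom c')) (rA_eq_appLE K T ⊤)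
    refine Eq.trans ?_ h1.symm
    refine Eq.trans ?_ (congrArg ((T ↘ Spec (CommRingCat.of K)).appLE ⊤ ⊤ le_top)
      (ConcreteCategory.congr_hom (Scheme.ΓSpecIso (CommRingCat.of K)).hom_inv_id c').symm)
    exact (ConcreteCategory.congr_hom (AbSch7.appLE_top (T ↘ Spec (CommRingCat.of K)) le_top) c').symm
  · refine mem_genLocus_of_frame hF π t ?_ ξ
    have hk' : IsUnit (rA K T ⊤ k) := (isUnit_iff_ne_zero.2 hk).map _
    have h1 : IsFrame G ⊤ (rA K T ⊤ k • e₀) := (Amp73.isFrame_smul_iff hfr _).2 hk'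
    have h2 : Amp73.pullS π F ⊤ t = Var76.LineBundle.res G le_top (rA K T ⊤ k • e₀) := by
      show _ = QC70.res G le_rfl _
      rw [QC70.res_self, ← hxb, ← hEmul]
      refine TopCat.Sheaf.eq_of_locally_eq' S (fun i => π ⁻¹ᵁ U i) ⊤ (fun _ => homOfLE le_top) hcov _ _ fun i => ?_
      show QC70.res G (π.preimage_mono le_top) (Amp73.pullS π F ⊤ t) = QC70.res G le_top (E _)
      rw [hEres, ← ht i, bcMap_tmul, map_one, one_smul]
      refine (congrArg (QC70.res G (π.preimage_mono le_top)) (QC70.res_self (Amp73.pullS π F ⊤ t)).symm).trans ?_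
      exact (LimTop61.unitSec_res π F (le_refl (π ⁻¹ᵁ ⊤)) (le_refl (π ⁻¹ᵁ U i)) le_top (π.preimage_mono le_top) t).symm
    rw [h2]
    exact h1.res _

end Groth.Agent.Cube7
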