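import Groth.Agent.Cube7.Const
import Groth.Agent.Cube7.Cyclic
import Groth.Agent.Cube7.Fibre
import Groth.Agent.Crv77.DegreeInt
import Groth.Agent.FlatMor68.FlatTopDim
import Groth.Agent.AbVar93.TrivDescent
import Groth.Agent.ValVan29.PushTwist

/-! Seesaw over a reduced base: an invertible module trivial on all fibres is, locally on the base, trivial. -/

set_option autoImplicit false
set_option maxSynthPendingDepth 6
set_option synthInstance.maxHeartbeats 200000
set_option linter.style.haveILetI false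
set_option backward.isDefEq.respectTransparency.types false

universe u

noncomputable section

open CategoryTheory CategoryTheory.Limits AlgebraicGeometry TopologicalSpace Opposite TensorProduct

namespace Groth.Agent.Cube7

open QC70 FF71 Mum71 AbSch7 Var76.LineBundle

theorem isFlatOver_of_isInvertible {X T : Scheme.{u}} (q : X ⟶ T) [Flat q] {L : X.Modules}
    (hL : PicF.IsInvertible L) : FlatMod.IsFlatOver q L := fun x => by
  refine FlatMor68.FlatTopDim.isFlatOverAt_of_free q L x ?_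
  obtain ⟨U, hxU, e, he⟩ := Mero90.exists_frame' hL x
  exact ⟨⟨PUnit.{u+1}, (Module.Basis.singleton PUnit.{u+1} (X.presheaf.stalk x)).map
    (LinearEquiv.ofBijective (LinearMap.toSpanSingleton (X.presheaf.stalk x) _ (L.presheaf.germ U x hxU e))
      (Mero90.frame_germ_bijective he ⟨x, hxU⟩))⟩⟩

section Affine

variable {A : Type u} [CommRing A] [IsNoetherianRing A] {X : Scheme.{u}} [X.Over (Spec (CommRingCat.of A))]
  [IsProper (X ↘ Spec (CommRingCat.of A))] [Flat (X ↘ Spec (CommRingCat.of A))]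

lemma exists_cover (X : Scheme.{u}) [CompactSpace X] :
    ∃ (ι : Type u) (_ : Finite ι) (U : ι → X.Opens), (∀ i, IsAffineOpen (U i)) ∧ ⨆ i, U i = ⊤ := by
  obtain ⟨s, hs⟩ := isCompact_univ.elim_finite_subcover (fun U : X.affineOpens => (U.1 : Set X))
    (fun U => U.1.2) (fun x _ => by
      obtain ⟨_, ⟨U, hU, rfl⟩, hx, -⟩ := X.isBasis_affineOpens.exists_subset_of_mem_open
        (Set.mem_univ x) isOpen_univ
      exact Set.mem_iUnion.2 ⟨⟨U, hU⟩, hx⟩)
  refine ⟨{U // U ∈ s}, inferInstance, fun U => U.1.1, fun U => U.1.2, top_le_iff.1 fun x _ => ?_⟩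
  obtain ⟨U, hU, hx⟩ := Set.mem_iUnion₂.1 (hs (Set.mem_univ x))
  exact Opens.mem_iSup.2 ⟨⟨U, hU⟩, hx⟩

lemma affine_inter {X S : Scheme.{u}} [IsAffine S] (q : X ⟶ S) [IsSeparated q] {U V : X.Opens}
    (hU : IsAffineOpen U) (hV : IsAffineOpen V) : IsAffineOpen (U ⊓ V) :=
  isAffineHom_diagonal_iff.mp (inferInstance : IsAffineHom (pullback.diagonal q)) ⊤ (isAffineOpen_top _) U
    (by simp) V (by simp) hU hV

variable [IsReduced A] {L : X.Modules}

/-- Fibre data at a prime. -/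
def TrivFib (L : X.Modules) (q : Ideal A) : Prop :=
  ∃ (K : Type u) (_ : Field K) (_ : Algebra A K), RingHom.ker (algebraMap A K) = q ∧
    Function.Bijective (bc A X K ↘ Spec (CommRingCat.of K)).appTop ∧
      Nonempty (bcMod (A := A) L K ≅ Coh.structureModule (bc A X K))

/-- **Seesaw, affine reduced base.** -/
theorem exists_genSection (hL : PicF.IsInvertible L) (htriv : ∀ q : Ideal A, q.IsPrime → TrivFib L q)
    (y : Spec (CommRingCat.of A)) :
    ∃ t : Γ(L, ⊤), ∀ x : X, (X ↘ Spec (CommRingCat.of A)) x = y →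
      x ∈ CohB1.genLocus L (EGA73.unitHom L t) := by
  haveI : CompactSpace X := QuasiCompact.compactSpace_of_compactSpace (X ↘ Spec (CommRingCat.of A))
  haveI : IsLocallyNoetherian X := LocallyOfFiniteType.isLocallyNoetherian (X ↘ Spec (CommRingCat.of A))
  haveI : L.IsQuasicoherent := Mero90.isQCoh_of_isInvertible hL
  obtain ⟨ι, _, U, hU₁, hU⟩ := exists_cover X
  have hU₂ : ∀ i j, IsAffineOpen (U i ⊓ U j) := fun i j => affine_inter (X ↘ Spec (CommRingCat.of A)) (hU₁ i) (hU₁ j)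
  obtain ⟨Q, hQ, e, he⟩ := exists_corep_fam (A := A) L hU hU₁ hU₂ (Crv77.isCoh_of_isInvertible hL)
    (isFlatOver_of_isInvertible _ hL)
  have hnat : ∀ {M M' : Type u} [AddCommGroup M] [Module A M] [AddCommGroup M'] [Module A M']
      (g : M →ₗ[A] M') (φ : Q →ₗ[A] M),
      e (ModuleCat.of A M') (g ∘ₗ φ) = famMap L U g (e (ModuleCat.of A M) φ) :=
    fun g φ => he (ModuleCat.of A _) (ModuleCat.of A _) (ModuleCat.ofHom g) φ
  have hzero : ∀ {M : Type u} [AddCommGroup M] [Module A M], e (ModuleCat.of A M) 0 = 0 := by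
    intro M _ _
    have := hnat (0 : M →ₗ[A] M) (0 : Q →ₗ[A] M)
    rw [LinearMap.zero_comp] at this
    rw [this]
    exact Subtype.ext (funext fun i => by rw [famMap_val, LinearMap.lTensor_zero]; rfl)
  have hfib : ∀ q : Ideal A, q.IsPrime → ∃ (K : Type u) (_ : Field K) (_ : Algebra A K),
      RingHom.ker (algebraMap A K) = q ∧ ∃ φ₀ : Q →ₗ[A] K, φ₀ ≠ 0 ∧
        (∀ φ : Q →ₗ[A] K, ∃ c : K, φ = c • φ₀) ∧
        ∀ (t : Γ(L, ⊤)) (φ : Q →ₗ[A] K), φ ≠ 0 →
          (∀ i, QC70.res L (le_top : U i ≤ ⊤) t ⊗ₜ (1 : K) = (e (ModuleCat.of A K) φ).1 i) →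
          ∀ ξ : bc A X K, bcπ A X K ξ ∈ CohB1.genLocus L (EGA73.unitHom L t) := by
    intro q hq
    obtain ⟨K, _, _, hker, h0, ⟨eK⟩⟩ := htriv q hq
    haveI : Nonempty (bc A X K) := by
      by_contra hne
      rw [not_nonempty_iff] at hne
      have : Subsingleton Γ(bc A X K, ⊤) := inferInstance
      have := h0.1.subsingleton
      exact false_of_nontrivial_of_subsingleton Γ(Spec (CommRingCat.of K), ⊤)
    obtain ⟨xb, hxb0, hall, hgen⟩ := exists_fibre_gen L hU hU₁ hU₂ K hL h0 eK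
    let φ₀ : Q →ₗ[A] K := (e (ModuleCat.of A K)).symm xb
    have hφ₀ : e (ModuleCat.of A K) φ₀ = xb := (e (ModuleCat.of A K)).apply_symm_apply xb
    have hne : φ₀ ≠ 0 := fun h => hxb0 inferInstance (by rw [← hφ₀, h]; exact hzero)
    have hmul : ∀ c : K, LinearMap.mulLeft A c ∘ₗ φ₀ = c • φ₀ := fun c => LinearMap.ext fun _ => rfl
    have h1 : ∀ φ : Q →ₗ[A] K, ∃ c : K, φ = c • φ₀ := fun φ => by
      obtain ⟨c, hc⟩ := hall (e (ModuleCat.of A K) φ)
      refine ⟨c, (e (ModuleCat.of A K)).injective ?_⟩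
      rw [hc, ← hmul, hnat, hφ₀]
    refine ⟨K, _, _, hker, φ₀, hne, h1, fun t φ hφ ht ξ => ?_⟩
    obtain ⟨c, rfl⟩ := h1 φ
    refine hgen t c (fun h => hφ (by rw [h, zero_smul])) (fun i => ?_) ξ
    rw [ht i, ← hmul, hnat, hφ₀]
  haveI := hQ
  haveI : Module.FinitePresentation A Q := Module.finitePresentation_of_finite A Q
  obtain ⟨K, _, _, hker, φ₀, hne, h1, hgen⟩ := hfib y.asIdeal y.isPrime
  obtain ⟨q₀, hq₀⟩ : ∃ q, φ₀ q ≠ 0 := by
    by_contra h
    push Not at h
    exact hne (LinearMap.ext h)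
  have hg := exists_gen_at y.asIdeal K hker φ₀ q₀ hq₀ h1
  obtain ⟨φ, hφ⟩ := exists_hom_reduced y.asIdeal q₀ hg fun q hq _ => by
    obtain ⟨K', i1, i2, hk', φ', hn', -, -⟩ := hfib q hq
    exact ⟨K', i1, i2, hk', φ', hn'⟩
  let z := e (ModuleCat.of A A) φ
  let zi : ∀ i, Γ(L, U i) := fun i => TensorProduct.rid A _ (z.1 i)
  let S : TopCat.Sheaf AddCommGrpCat.{u} X := ⟨L.presheaf, L.isSheaf⟩
  have hrid : ∀ {V W : X.Opens} (h : W ≤ V) (w : Γ(L, V) ⊗[A] A),
      QC70.res L h (TensorProduct.rid A _ w) = TensorProduct.rid A _ (resT L h A w) := by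
    intro V W h w
    induction w using TensorProduct.induction_on with
    | zero => simp only [map_zero, QC70.res]
    | add a b ha hb => simp only [map_add, QC70.res] at ha hb ⊢; rw [ha, hb]
    | tmul r a =>
      show QC70.res L h (a • r) = a • resL (A := A) L h r
      exact map_smul (resL (A := A) L h) a r
  obtain ⟨t, ht, -⟩ := TopCat.Sheaf.existsUnique_gluing' S U ⊤ (fun _ => homOfLE le_top) hU.ge zi (fun i j => by
    show QC70.res L (inf_le_left : U i ⊓ U j ≤ U i) (zi i) = QC70.res L (inf_le_right : U i ⊓ U j ≤ U j) (zi j)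
    rw [hrid, hrid, z.2 i j])
  refine ⟨t, fun x hx => ?_⟩
  let φK : Q →ₗ[A] K := Algebra.linearMap A K ∘ₗ φ
  have hφK : φK ≠ 0 := fun h => hφ (hker.le ((RingHom.mem_ker).2 (LinearMap.congr_fun h q₀)))
  have hxr : x ∈ Set.range (bcπ A X K) := by
    rw [Scheme.Pullback.range_fst]
    refine ⟨default, ?_⟩
    rw [hx]
    have hb : (default : Spec (CommRingCat.of K)).asIdeal = (⊥ : Ideal K) :=
      Ideal.eq_bot_of_prime (K := K) _
    refine PrimeSpectrum.ext ?_
    show Ideal.comap (algebraMap A K) (default : Spec (CommRingCat.of K)).asIdeal = y.asIdeal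
    rw [hb, ← hker]
    rfl
  obtain ⟨ξ, rfl⟩ := hxr
  refine hgen t φK hφK (fun i => ?_) ξ
  rw [hnat, famMap_val, show QC70.res L (le_top : U i ≤ ⊤) t = zi i from ht i]
  show (TensorProduct.rid A _ (z.1 i)) ⊗ₜ[A] (1 : K) = _
  generalize z.1 i = w
  induction w using TensorProduct.induction_on with
  | zero => simp only [map_zero, TensorProduct.zero_tmul]
  | add a b ha hb => simp only [map_add, TensorProduct.add_tmul, ha, hb]
  | tmul r a =>
    rw [TensorProduct.rid_tmul, LinearMap.lTensor_tmul, TensorProduct.smul_tmul]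
    rw [Algebra.linearMap_apply, Algebra.smul_def, mul_one]

end Affine

section Global

variable {X Y : Scheme.{u}} (f : X ⟶ Y) [IsProper f] [Flat f] [IsLocallyNoetherian Y] [IsReduced Y]

/-- **Seesaw over a reduced base**: trivial on fibres implies trivial locally on the base. -/
theorem exists_nhd_frame (h0 : H0Fib f) (L : X.Modules) (hL : PicF.IsInvertible L)
    (htriv : ∀ y : Y, Nonempty ((Scheme.Modules.pullback (f.fiberι y)).obj L ≅ Coh.structureModule (f.fiber y)))
    (y : Y) : ∃ V : Y.Opens, y ∈ V ∧ ∃ s : Γ(L, f ⁻¹ᵁ V), IsFrame L (f ⁻¹ᵁ V) s := by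
  obtain ⟨_, ⟨W, hW, rfl⟩, hyW, -⟩ := Y.isBasis_affineOpens.exists_subset_of_mem_open (Set.mem_univ y) isOpen_univ
  haveI : IsNoetherianRing Γ(Y, W) := IsLocallyNoetherian.component_noetherian ⟨W, hW⟩
  haveI : _root_.IsReduced Γ(Y, W) := inferInstance
  let g := hW.fromSpec
  let X' := pullback f g
  let j : X' ⟶ X := pullback.fst f g
  letI ov : X'.Over (Spec (CommRingCat.of Γ(Y, W))) := ⟨pullback.snd f g⟩
  haveI : IsProper (X' ↘ Spec (CommRingCat.of Γ(Y, W))) := inferInstanceAs (IsProper (pullback.snd f g))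
  haveI : Flat (X' ↘ Spec (CommRingCat.of Γ(Y, W))) := inferInstanceAs (Flat (pullback.snd f g))
  let L' := (Scheme.Modules.pullback j).obj L
  have hL' : PicF.IsInvertible L' := Amp73.isInvertible_pullback j hL
  have H : IsPullback j (X' ↘ Spec (CommRingCat.of Γ(Y, W))) f g := IsPullback.of_hasPullback f g
  have hfib : ∀ q : Ideal Γ(Y, W), q.IsPrime → TrivFib L' q := by
    intro q hq
    let z : Spec (CommRingCat.of Γ(Y, W)) := ⟨q, hq⟩
    let i := (AlgebraicGeometry.Scheme.Spec.residueFieldIso (CommRingCat.of Γ(Y, W)) z).commRingCatIsoToRingEquiv.symm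
    let ψ : Γ(Y, W) →+* (Spec (CommRingCat.of Γ(Y, W))).residueField z :=
      i.toRingHom.comp (algebraMap Γ(Y, W) q.ResidueField)
    letI : Algebra Γ(Y, W) ((Spec (CommRingCat.of Γ(Y, W))).residueField z) := ψ.toAlgebra
    have hz : (Spec (CommRingCat.of Γ(Y, W))).fromSpecResidueField z =
        Spec.map (CommRingCat.ofHom (algebraMap Γ(Y, W) ((Spec (CommRingCat.of Γ(Y, W))).residueField z))) := by
      refine (AlgebraicGeometry.Scheme.Spec.map_residueFieldIso_inv_eq_fromSpecResidueField (CommRingCat.of Γ(Y, W)) z).symm.trans ?_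
      rw [← Spec.map_comp]
      rfl
    let K := (Spec (CommRingCat.of Γ(Y, W))).residueField z
    refine ⟨K, inferInstance, inferInstance, ?_, ?_, ?_⟩
    · ext a
      rw [RingHom.mem_ker]
      show i (algebraMap Γ(Y, W) q.ResidueField a) = 0 ↔ _
      rw [map_eq_zero_iff _ i.injective, Ideal.algebraMap_residueField_eq_zero]
    · exact (h0.of_isPullback H) K (Spec.map (CommRingCat.ofHom (algebraMap Γ(Y, W) K)))
    · let π := bcπ Γ(Y, W) X' K
      let σ : bc Γ(Y, W) X' K ⟶ Spec (Y.residueField (g z)) :=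
        pullback.snd _ _ ≫ Spec.map (g.residueFieldMap z)
      have hcond : (π ≫ j) ≫ f = σ ≫ Y.fromSpecResidueField (g z) := by
        rw [Category.assoc, H.w, Category.assoc, Scheme.Hom.SpecMap_residueFieldMap_fromSpecResidueField,
          ← Category.assoc, pullback.condition, Category.assoc]
        exact congrArg (fun m => pullback.snd _ _ ≫ m ≫ g) hz.symm
      let ρ : bc Γ(Y, W) X' K ⟶ f.fiber (g z) := pullback.lift (π ≫ j) σ hcond
      have hρ : π ≫ j = ρ ≫ f.fiberι (g z) := (pullback.lift_fst _ _ _).symm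
      obtain ⟨e₁⟩ := htriv (g z)
      exact ⟨(Scheme.Modules.pullbackComp π j).app L ≪≫ (Scheme.Modules.pullbackCongr hρ).app L ≪≫
        ((Scheme.Modules.pullbackComp ρ (f.fiberι (g z))).app L).symm ≪≫
        (Scheme.Modules.pullback ρ).mapIso e₁ ≪≫ PicLoc.pullbackStructureIso ρ⟩
  obtain ⟨w, hw⟩ : ∃ w, g w = y := by
    have : y ∈ Set.range g := by rw [hW.range_fromSpec]; exact hyW
    exact this
  obtain ⟨t, ht⟩ := exists_genSection hL' hfib w
  let O := CohB1.genLocus L' (EGA73.unitHom L' t)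
  obtain ⟨V₀, hwV, hV₀⟩ : ∃ V₀ : (Spec (CommRingCat.of Γ(Y, W))).Opens, w ∈ V₀ ∧
      (X' ↘ Spec (CommRingCat.of Γ(Y, W))) ⁻¹ᵁ V₀ ≤ O := by
    let q := X' ↘ Spec (CommRingCat.of Γ(Y, W))
    refine ⟨⟨(q '' (O : Set X')ᶜ)ᶜ, (q.isClosedMap _ O.2.isClosed_compl).isOpen_compl⟩, ?_, ?_⟩
    · rintro ⟨x, hx, hxw⟩
      exact hx (ht x hxw)
    · intro x hx
      by_contra hxO
      exact hx ⟨x, hxO, rfl⟩
  let V := g ''ᵁ V₀
  have hjV : j ''ᵁ ((X' ↘ Spec (CommRingCat.of Γ(Y, W))) ⁻¹ᵁ V₀) = f ⁻¹ᵁ V := by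
    ext x
    constructor
    · rintro ⟨x', hx', rfl⟩
      refine ⟨(X' ↘ Spec (CommRingCat.of Γ(Y, W))) x', hx', ?_⟩
      show ((X' ↘ Spec (CommRingCat.of Γ(Y, W))) ≫ g) x' = (j ≫ f) x'
      rw [H.w]
    · rintro ⟨v, hv, hvx⟩
      obtain ⟨x', h1, h2⟩ := Scheme.Pullback.exists_preimage_pullback (f := f) (g := g) x v hvx.symm
      exact ⟨x', (show (pullback.snd f g) x' ∈ V₀ by rw [h2]; exact hv), h1⟩
  have h1 : IsFrame L' ((X' ↘ Spec (CommRingCat.of Γ(Y, W))) ⁻¹ᵁ V₀)
      (Var76.ZeroScheme.val L' (EGA73.unitHom L' t) _) := (Amp73.isFrame_iff_le_genLocus _ _).2 hV₀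
  let φ := (Scheme.Modules.restrictFunctorIsoPullback j).inv.app L
  have h2 := (Props58.PullTensor.isFrame_restrict_iff j L _ _).1 ((Amp73.isFrame_app_iff φ _).2 h1)
  exact ⟨V, ⟨w, hwV, hw⟩, _, (h2.res hjV.ge)⟩

/-- The direct image is invertible and the counit is an isomorphism, given frames over preimages. -/
theorem invertible_and_counit_of_frames {X Y : Scheme.{u}} (f : X ⟶ Y)
    (hf : ∀ V : Y.Opens, Function.Bijective (f.app V)) {L : X.Modules}
    (hloc : ∀ y : Y, ∃ V : Y.Opens, y ∈ V ∧ ∃ s : Γ(L, f ⁻¹ᵁ V), IsFrame L (f ⁻¹ᵁ V) s) :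
    PicF.IsInvertible ((Scheme.Modules.pushforward f).obj L) ∧
      IsIso ((Scheme.Modules.pullbackPushforwardAdjunction f).counit.app L) := by
  let N := (Scheme.Modules.pushforward f).obj L
  have hN : ∀ (V : Y.Opens) (s : Γ(L, f ⁻¹ᵁ V)), IsFrame L (f ⁻¹ᵁ V) s → IsFrame N V (show Γ(N, V) from s) := by
    intro V s hs T hT
    exact (hs (f ⁻¹ᵁ T) (f.preimage_mono hT)).comp (hf T)
  refine ⟨Mero90.isInvertible_of_frames fun y => ?_, ValVan29.isIso_of_bijective_small _ fun x => ?_⟩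
  · obtain ⟨V, hyV, s, hs⟩ := hloc y
    exact ⟨V, hyV, _, hN V s hs⟩
  · obtain ⟨V, hxV, s, hs⟩ := hloc (f x)
    have h1 := Props58.PullTensor.isFrame_pullS f (hN V s hs)
    refine ⟨f ⁻¹ᵁ V, hxV, fun T hT => ?_⟩
    let adj := Scheme.Modules.pullbackPushforwardAdjunction f
    have key : (adj.counit.app L).app (f ⁻¹ᵁ V) (Amp73.pullS f N V (show Γ(N, V) from s)) = s :=
      ConcreteCategory.congr_hom (congrArg (fun t => Scheme.Modules.Hom.app t V) (adj.right_triangle_components L))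
        (show Γ(N, V) from s)
    refine (Function.Bijective.of_comp_iff _ (h1 T hT)).1 ?_
    have e' : ((adj.counit.app L).app T : _ → _) ∘
        (fun a : Γ(X, T) => a • Var76.LineBundle.res _ hT (Amp73.pullS f N V (show Γ(N, V) from s))) =
        fun a : Γ(X, T) => a • Var76.LineBundle.res L hT s := by
      funext a
      refine (Scheme.Modules.Hom.app_smul (adj.counit.app L) a _).trans (congrArg (a • ·) ?_)
      exact (Mero90.app_res (adj.counit.app L) hT _).trans (congrArg (Var76.LineBundle.res L hT) key)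
    rw [e']
    exact hs T hT

end Global

end Groth.Agent.Cube7
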