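import Groth.Agent.Cube7.Sections
import Mathlib.RingTheory.Flat.Basic
import Mathlib.LinearAlgebra.TensorProduct.RightExactness
import Mathlib.Algebra.Algebra.Bilinear

/-! Lifting compatible families along a small extension when the obstruction dies on two slices. -/

set_option autoImplicit false
set_option maxSynthPendingDepth 6
set_option synthInstance.maxHeartbeats 200000
set_option linter.style.haveILetI false
set_option backward.isDefEq.respectTransparency.types false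

universe u

noncomputable section

open CategoryTheory CategoryTheory.Limits AlgebraicGeometry TopologicalSpace Opposite TensorProduct

namespace Groth.Agent.Cube7

open QC70 FF71 Mum71 Serre71

variable {A : Type u} [CommRing A] {X : Scheme.{u}} [X.Over (Spec (CommRingCat.of A))]
  (F : X.Modules) {ι : Type u} (U : ι → X.Opens)

/-- Cochains in degree one satisfying the cocycle condition. -/
def IsCocycle {M : Type u} [AddCommGroup M] [Module A M]
    (c : ∀ i j, Γ(F, U i ⊓ U j) ⊗[A] M) : Prop :=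
  ∀ i j k, resT F (inf_le_left : U i ⊓ U j ⊓ U k ≤ U i ⊓ U j) M (c i j) +
    resT F (le_inf (inf_le_left.trans inf_le_right) inf_le_right : U i ⊓ U j ⊓ U k ≤ U j ⊓ U k) M (c j k) =
    resT F (le_inf (inf_le_left.trans inf_le_left) inf_le_right : U i ⊓ U j ⊓ U k ≤ U i ⊓ U k) M (c i k)

/-- Being a coboundary. -/
def IsCobound {M : Type u} [AddCommGroup M] [Module A M]
    (c : ∀ i j, Γ(F, U i ⊓ U j) ⊗[A] M) : Prop :=
  ∃ b : ∀ i, Γ(F, U i) ⊗[A] M,
    ∀ i j, c i j = resT F inf_le_left M (b i) - resT F inf_le_right M (b j)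

lemma lTensor_resT {M M' : Type u} [AddCommGroup M] [Module A M] [AddCommGroup M'] [Module A M']
    (g : M →ₗ[A] M') {V W : X.Opens} (h : W ≤ V) (z : Γ(F, V) ⊗[A] M) :
    g.lTensor _ (resT F h M z) = resT F h M' (g.lTensor _ z) := by
  rw [← LinearMap.comp_apply, ← LinearMap.comp_apply, LinearMap.lTensor_comp_rTensor,
    LinearMap.rTensor_comp_lTensor]

/-- The structure module. -/
abbrev Om (X : Scheme.{u}) : X.Modules := Coh.structureModule X

/-- The unit function. -/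
abbrev oneO (Y : Scheme.{u}) (V : Y.Opens) : Γ(Om Y, V) := (1 : Γ(Y, V))

/-- Multiplication by a function. -/
def mulF (V : X.Opens) : Γ(Om X, V) →ₗ[A] Module.End A Γ(F, V) where
  toFun r :=
    { toFun := fun f => (show Γ(X, V) from r) • f
      map_add' := fun f f' => smul_add _ f f'
      map_smul' := fun a f => by
        show (show Γ(X, V) from r) • (rA A X V a • f) = rA A X V a • ((show Γ(X, V) from r) • f)
        rw [smul_smul, smul_smul, mul_comm] }
  map_add' r r' := LinearMap.ext fun f => add_smul (show Γ(X, V) from r) (show Γ(X, V) from r') f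
  map_smul' a r := LinearMap.ext fun f => by
    show (rA A X V a * (show Γ(X, V) from r)) • f = rA A X V a • ((show Γ(X, V) from r) • f)
    rw [smul_smul]

variable (K : Type u) [Field K] [Algebra A K]

variable (A) in
/-- Multiplication after tensoring with `K`. -/
def act (V : X.Opens) : Γ(Om X, V) ⊗[A] K →ₗ[A] Module.End A (Γ(F, V) ⊗[A] K) :=
  TensorProduct.lift ((TensorProduct.mapBilinear (RingHom.id A) Γ(F, V) K Γ(F, V) K).compl₁₂
    (mulF F V) (LinearMap.mul A K))

lemma act_tmul (V : X.Opens) (r : Γ(Om X, V)) (a : K) (f : Γ(F, V)) (b : K) :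
    act A F K V (r ⊗ₜ a) (f ⊗ₜ b) = ((show Γ(X, V) from r) • f) ⊗ₜ (a * b) := rfl

lemma act_res {V W : X.Opens} (h : W ≤ V) (γ : Γ(Om X, V) ⊗[A] K) (z : Γ(F, V) ⊗[A] K) :
    resT F h K (act A F K V γ z) = act A F K W (resT (Om X) h K γ) (resT F h K z) := by
  induction γ using TensorProduct.induction_on with
  | zero => simp only [map_zero, LinearMap.zero_apply]
  | add a b ha hb => simp only [map_add, LinearMap.add_apply, ha, hb]
  | tmul r a =>
    induction z using TensorProduct.induction_on with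
    | zero => simp only [map_zero]
    | add z z' hz hz' => simp only [map_add, hz, hz']
    | tmul f b =>
      show QC70.res F h ((show Γ(X, V) from r) • f) ⊗ₜ[A] (a * b) =
        ((show Γ(X, W) from QC70.res (Om X) h r) • QC70.res F h f) ⊗ₜ[A] (a * b)
      rw [QC70.res_smul]
      rfl

variable (A) in
/-- A slice: a morphism with a trivialisation of the pulled back module and only constant functions. -/
structure Slice where
  /-- The source. -/
  Y : Scheme.{u}
  [base : Y.Over (Spec (CommRingCat.of A))]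
  /-- The morphism. -/
  σ : Y ⟶ X
  σ_over : σ ≫ (X ↘ Spec (CommRingCat.of A)) = Y ↘ Spec (CommRingCat.of A)
  /-- The trivialisation on sections. -/
  θ : ∀ V : X.Opens, Γ(F, V) →ₗ[A] Γ(Om Y, σ ⁻¹ᵁ V)
  θ_res : ∀ {V W : X.Opens} (h : W ≤ V) (f : Γ(F, V)),
    θ W (QC70.res F h f) = QC70.res (Om Y) (σ.preimage_mono h) (θ V f)
  θ_smul : ∀ (V : X.Opens) (r : Γ(X, V)) (f : Γ(F, V)),
    θ V (r • f) = (σ.app V r • θ V f : Γ(Om Y, σ ⁻¹ᵁ V))
  θ_span : ∀ i, oneO Y (σ ⁻¹ᵁ U i) ∈ Submodule.span Γ(Y, σ ⁻¹ᵁ U i) (Set.range (θ (U i)))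
  const_surj : ∀ (M : ModuleCat.{u} A) (y : Fam A (Om Y) (fun i => σ ⁻¹ᵁ U i) M),
    ∃ m : M, ∀ i, y.1 i = oneO Y (σ ⁻¹ᵁ U i) ⊗ₜ m
  flat : ∀ i k, Module.Flat A Γ(Om Y, σ ⁻¹ᵁ (U i ⊓ U k))
  const_inj : (∀ i, oneO Y (σ ⁻¹ᵁ U i) ⊗ₜ[A] (1 : K) = (0 : Γ(Om Y, σ ⁻¹ᵁ U i) ⊗[A] K)) → False

variable {F U K}

attribute [local instance] Slice.base

namespace Slice

variable (S : Slice A F U K)

lemma app_rA (V : X.Opens) (a : A) : S.σ.app V (rA A X V a) = rA A S.Y (S.σ ⁻¹ᵁ V) a := by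
  have h1 := congrArg (fun φ => φ a) (rA_eq_appLE A X V)
  have h2 := congrArg (fun φ => φ a) (rA_eq_appLE A S.Y (S.σ ⁻¹ᵁ V))
  refine (congrArg (S.σ.app V) h1).trans (Eq.trans ?_ h2.symm)
  show ((X ↘ Spec (CommRingCat.of A)).appLE ⊤ V le_top ≫ S.σ.app V) ((Scheme.ΓSpecIso (CommRingCat.of A)).inv a) = _
  rw [Scheme.Hom.app_eq_appLE, Scheme.Hom.appLE_comp_appLE]
  simp only [S.σ_over]
  rfl

/-- Pullback of functions. -/
def pullO (V : X.Opens) : Γ(Om X, V) →ₗ[A] Γ(Om S.Y, S.σ ⁻¹ᵁ V) where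
  toFun r := S.σ.app V r
  map_add' r r' := map_add (S.σ.app V).hom r r'
  map_smul' a r := by
    show S.σ.app V (rA A X V a * (show Γ(X, V) from r)) = rA A S.Y (S.σ ⁻¹ᵁ V) a * S.σ.app V r
    rw [map_mul, app_rA]

lemma pullO_res {V W : X.Opens} (h : W ≤ V) {M : Type u} [AddCommGroup M] [Module A M]
    (γ : Γ(Om X, V) ⊗[A] M) :
    (S.pullO W).rTensor M (resT (Om X) h M γ) = resT (Om S.Y) (S.σ.preimage_mono h) M ((S.pullO V).rTensor M γ) := by
  induction γ using TensorProduct.induction_on with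
  | zero => simp only [map_zero]
  | add a b ha hb => simp only [map_add, ha, hb]
  | tmul r m =>
    exact congrArg (· ⊗ₜ m) (ConcreteCategory.congr_hom (S.σ.naturality (homOfLE h).op) r)

lemma θ_resT {V W : X.Opens} (h : W ≤ V) {M : Type u} [AddCommGroup M] [Module A M]
    (z : Γ(F, V) ⊗[A] M) :
    (S.θ W).rTensor M (resT F h M z) = resT (Om S.Y) (S.σ.preimage_mono h) M ((S.θ V).rTensor M z) := by
  induction z using TensorProduct.induction_on with
  | zero => simp only [map_zero]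
  | add a b ha hb => simp only [map_add, ha, hb]
  | tmul f m => exact congrArg (· ⊗ₜ m) (S.θ_res h f)

lemma θ_act (V : X.Opens) (γ : Γ(Om X, V) ⊗[A] K) (z : Γ(F, V) ⊗[A] K) :
    (S.θ V).rTensor K (act A F K V γ z) =
      act A (Om S.Y) K (S.σ ⁻¹ᵁ V) ((S.pullO V).rTensor K γ) ((S.θ V).rTensor K z) := by
  induction γ using TensorProduct.induction_on with
  | zero => simp only [map_zero, LinearMap.zero_apply]
  | add a b ha hb => simp only [map_add, LinearMap.add_apply, ha, hb]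
  | tmul r a =>
    induction z using TensorProduct.induction_on with
    | zero => simp only [map_zero]
    | add z z' hz hz' => simp only [map_add, hz, hz']
    | tmul f b =>
      show S.θ V ((show Γ(X, V) from r) • f) ⊗ₜ[A] (a * b) =
        ((show Γ(S.Y, S.σ ⁻¹ᵁ V) from S.σ.app V r) • S.θ V f) ⊗ₜ[A] (a * b)
      rw [S.θ_smul]

/-- The value of a family over `K` on the slice. -/
lemma exists_val (xb : Fam A F U K) :
    ∃ c₀ : K, ∀ i, (S.θ (U i)).rTensor K (xb.1 i) = oneO S.Y (S.σ ⁻¹ᵁ U i) ⊗ₜ c₀ :=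
  S.const_surj (ModuleCat.of A K) ⟨fun i => (S.θ (U i)).rTensor K (xb.1 i), fun i j => by
    have := congrArg ((S.θ (U i ⊓ U j)).rTensor K) (xb.2 i j)
    rw [S.θ_resT, S.θ_resT] at this
    exact this⟩

lemma val_ne_zero (xb : Fam A F U K) (hxb : ∀ i, Function.Surjective fun γ => act A F K (U i) γ (xb.1 i))
    {c₀ : K} (hc : ∀ i, (S.θ (U i)).rTensor K (xb.1 i) = oneO S.Y (S.σ ⁻¹ᵁ U i) ⊗ₜ c₀) : c₀ ≠ 0 := by
  rintro rfl
  refine S.const_inj fun i => ?_
  have h0 : ∀ f : Γ(F, U i), (S.θ (U i) f) ⊗ₜ[A] (1 : K) = 0 := fun f => by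
    obtain ⟨γ, hγ⟩ := hxb i (f ⊗ₜ 1)
    rw [← LinearMap.rTensor_tmul, ← hγ, S.θ_act, hc, TensorProduct.tmul_zero, map_zero]
  have key : ∀ w : Γ(Om S.Y, S.σ ⁻¹ᵁ U i),
      w ∈ Submodule.span Γ(S.Y, S.σ ⁻¹ᵁ U i) (Set.range (S.θ (U i))) →
      w ⊗ₜ[A] (1 : K) = 0 := by
    intro w hw
    induction hw using Submodule.span_induction with
    | mem w hw => obtain ⟨f, rfl⟩ := hw; exact h0 f
    | zero => exact TensorProduct.zero_tmul _ _
    | add w w' _ _ h h' => rw [TensorProduct.add_tmul, h, h', add_zero]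
    | smul r w _ h =>
      have h2 := LinearMap.congr_arg (f := (mulF (Om S.Y) (S.σ ⁻¹ᵁ U i) r).rTensor K) h
      rw [map_zero, LinearMap.rTensor_tmul] at h2
      exact h2
  exact key _ (S.θ_span i)

end Slice

variable (F) in
/-- Existence of a lift of a family along a small extension. -/
theorem exists_lift_fam {M M' : Type u} [AddCommGroup M] [Module A M] [AddCommGroup M'] [Module A M']
    (j : K →ₗ[A] M') (g : M' →ₗ[A] M) (hj : Function.Injective j) (hg : Function.Surjective g)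
    (hex : Function.Exact j g)
    (hflat : ∀ i k l, Module.Flat A Γ(F, U i ⊓ U k ⊓ U l) ∧ Module.Flat A Γ(F, U i ⊓ U k))
    (xb : Fam A F U K)
    (hbij : ∀ i k, Function.Bijective fun γ =>
      act A F K (U i ⊓ U k) γ (resT F (inf_le_left : U i ⊓ U k ≤ U i) K (xb.1 i)))
    (hbij₃ : ∀ i k l, Function.Injective fun γ =>
      act A F K (U i ⊓ U k ⊓ U l) γ (resT F (inf_le_left.trans inf_le_left : U i ⊓ U k ⊓ U l ≤ U i) K (xb.1 i)))
    (hbij₁ : ∀ i, Function.Surjective fun γ => act A F K (U i) γ (xb.1 i))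
    (S₁ S₂ : Slice A F U K)
    (hKun : ∀ c : ∀ i k, Γ(Om X, U i ⊓ U k) ⊗[A] K, IsCocycle (Om X) U c →
      (∀ S ∈ [S₁, S₂], IsCobound (Om S.Y) (fun i => S.σ ⁻¹ᵁ U i)
        (fun i k => (S.pullO (U i ⊓ U k)).rTensor K (c i k))) → IsCobound (Om X) U c)
    (x : Fam A F U M) : ∃ y : Fam A F U M', famMap F U g y = x := by
  choose x' hx' using fun i => LinearMap.lTensor_surjective Γ(F, U i) hg (x.1 i)
  have hd : ∀ i k, ∃ d : Γ(F, U i ⊓ U k) ⊗[A] K, j.lTensor _ d =
      resT F inf_le_left M' (x' i) - resT F inf_le_right M' (x' k) := fun i k => by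
    refine (lTensor_exact Γ(F, U i ⊓ U k) hex hg _).1 ?_
    rw [map_sub, lTensor_resT, lTensor_resT, hx', hx', x.2 i k, sub_self]
  choose d hd using hd
  choose γ hγ using fun i k => (hbij i k).2 (d i k)
  simp only at hγ
  have hjinj₂ : ∀ i k, Function.Injective (j.lTensor Γ(F, U i ⊓ U k)) := fun i k => by
    have := (hflat i k i).2
    exact Module.Flat.lTensor_preserves_injective_linearMap j hj
  have hjinj₃ : ∀ i k l, Function.Injective (j.lTensor Γ(F, U i ⊓ U k ⊓ U l)) := fun i k l => by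
    have := (hflat i k l).1
    exact Module.Flat.lTensor_preserves_injective_linearMap j hj
  have hcoc : IsCocycle (Om X) U γ := by
    intro i k l
    apply hbij₃ i k l
    have e1 : act A F K (U i ⊓ U k ⊓ U l)
        (resT (Om X) (inf_le_left : U i ⊓ U k ⊓ U l ≤ U i ⊓ U k) K (γ i k))
        (resT F (inf_le_left.trans inf_le_left) K (xb.1 i)) = resT F inf_le_left K (d i k) := by
      rw [← hγ i k, act_res, resT_resT]
    have e2 : act A F K (U i ⊓ U k ⊓ U l)
        (resT (Om X) (le_inf (inf_le_left.trans inf_le_right) inf_le_right : U i ⊓ U k ⊓ U l ≤ U k ⊓ U l) K (γ k l))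
        (resT F (inf_le_left.trans inf_le_left) K (xb.1 i)) =
        resT F (le_inf (inf_le_left.trans inf_le_right) inf_le_right) K (d k l) := by
      rw [← hγ k l, act_res, resT_resT]
      congr 1
      have h := congrArg (resT F (inf_le_left : U i ⊓ U k ⊓ U l ≤ U i ⊓ U k) K) (xb.2 i k)
      rw [resT_resT, resT_resT] at h
      exact h
    have e3 : act A F K (U i ⊓ U k ⊓ U l)
        (resT (Om X) (le_inf (inf_le_left.trans inf_le_left) inf_le_right : U i ⊓ U k ⊓ U l ≤ U i ⊓ U l) K (γ i l))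
        (resT F (inf_le_left.trans inf_le_left) K (xb.1 i)) =
        resT F (le_inf (inf_le_left.trans inf_le_left) inf_le_right) K (d i l) := by
      rw [← hγ i l, act_res, resT_resT]
    simp only [map_add, LinearMap.add_apply, e1, e2, e3]
    apply hjinj₃ i k l
    rw [map_add, lTensor_resT, lTensor_resT, lTensor_resT, hd, hd, hd]
    simp only [map_sub, resT_resT]
    abel
  have hsl : ∀ S : Slice A F U K, IsCobound (Om S.Y) (fun i => S.σ ⁻¹ᵁ U i)
      (fun i k => (S.pullO (U i ⊓ U k)).rTensor K (γ i k)) := by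
    intro S
    letI := S.base
    obtain ⟨m, hm⟩ := S.const_surj (ModuleCat.of A M) ⟨fun i => (S.θ (U i)).rTensor M (x.1 i), fun i k => by
      have := congrArg ((S.θ (U i ⊓ U k)).rTensor M) (x.2 i k)
      rw [S.θ_resT, S.θ_resT] at this
      exact this⟩
    obtain ⟨m', rfl⟩ := hg m
    have hb : ∀ i, ∃ b : Γ(Om S.Y, S.σ ⁻¹ᵁ U i) ⊗[A] K, j.lTensor _ b =
        (S.θ (U i)).rTensor M' (x' i) - oneO S.Y (S.σ ⁻¹ᵁ U i) ⊗ₜ m' := fun i => by
      refine (lTensor_exact Γ(Om S.Y, S.σ ⁻¹ᵁ U i) hex hg _).1 ?_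
      rw [map_sub, ← LinearMap.comp_apply, LinearMap.lTensor_comp_rTensor,
        ← LinearMap.rTensor_comp_lTensor, LinearMap.comp_apply, hx']
      exact sub_eq_zero.2 ((hm i).trans rfl)
    choose b hb using hb
    obtain ⟨c₀, hc₀⟩ := S.exists_val xb
    have hc₀0 := S.val_ne_zero xb hbij₁ hc₀
    let sc : ∀ {V : S.Y.Opens}, Γ(Om S.Y, V) ⊗[A] K →ₗ[A] Γ(Om S.Y, V) ⊗[A] K := fun {V} =>
      (LinearMap.mul A K c₀⁻¹).lTensor _
    have hscact : ∀ {V : S.Y.Opens} (g : Γ(Om S.Y, V) ⊗[A] K),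
        sc (act A (Om S.Y) K V g ((oneO S.Y V) ⊗ₜ c₀)) = g := by
      intro V g
      induction g using TensorProduct.induction_on with
      | zero => simp only [map_zero, LinearMap.zero_apply]
      | add a b ha hb => simp only [map_add, LinearMap.add_apply, ha, hb]
      | tmul r a =>
        show (show Γ(Om S.Y, V) from ((show Γ(S.Y, V) from r) * 1)) ⊗ₜ[A] (c₀⁻¹ * (a * c₀)) = _
        have e2 : c₀⁻¹ * (a * c₀) = a := by rw [mul_comm a, inv_mul_cancel_left₀ hc₀0]
        exact congrArg₂ (fun (p : Γ(Om S.Y, V)) (q : K) => p ⊗ₜ[A] q) (mul_one (show Γ(S.Y, V) from r)) e2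
    refine ⟨fun i => sc (b i), fun i k => ?_⟩
    show (S.pullO (U i ⊓ U k)).rTensor K (γ i k) =
      resT (Om S.Y) (S.σ.preimage_mono (inf_le_left : U i ⊓ U k ≤ U i)) K (sc (b i)) -
        resT (Om S.Y) (S.σ.preimage_mono (inf_le_right : U i ⊓ U k ≤ U k)) K (sc (b k))
    rw [← lTensor_resT, ← lTensor_resT, ← map_sub]
    refine (hscact _).symm.trans (congrArg sc ?_)
    have hjY : (j.lTensor Γ(Om S.Y, S.σ ⁻¹ᵁ (U i ⊓ U k)))
        ((S.θ _).rTensor K (d i k)) = resT (Om S.Y) (S.σ.preimage_mono inf_le_left) M' ((S.θ (U i)).rTensor M' (x' i)) -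
          resT (Om S.Y) (S.σ.preimage_mono inf_le_right) M' ((S.θ (U k)).rTensor M' (x' k)) := by
      rw [← S.θ_resT (inf_le_left : U i ⊓ U k ≤ U i), ← S.θ_resT (inf_le_right : U i ⊓ U k ≤ U k), ← map_sub, ← hd, ← LinearMap.comp_apply, LinearMap.lTensor_comp_rTensor,
        ← LinearMap.rTensor_comp_lTensor, LinearMap.comp_apply]
    have hval : (S.θ (U i ⊓ U k)).rTensor K (resT F (inf_le_left : U i ⊓ U k ≤ U i) K (xb.1 i)) =
        (oneO S.Y (S.σ ⁻¹ᵁ (U i ⊓ U k))) ⊗ₜ c₀ := by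
      rw [S.θ_resT, hc₀]
      exact congrArg (· ⊗ₜ c₀) (map_one (S.Y.presheaf.map _).hom)
    rw [← hval, ← S.θ_act, hγ]
    have : Module.Flat A Γ(Om S.Y, S.σ ⁻¹ᵁ (U i ⊓ U k)) := S.flat i k
    apply Module.Flat.lTensor_preserves_injective_linearMap j hj
    rw [hjY, map_sub, lTensor_resT, lTensor_resT, hb, hb, map_sub, map_sub]
    simp only [LinearMap.rTensor_tmul]
    rw [show resL (A := A) (Om S.Y) (S.σ.preimage_mono (inf_le_left : U i ⊓ U k ≤ U i)) (oneO S.Y (S.σ ⁻¹ᵁ U i)) =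
      resL (A := A) (Om S.Y) (S.σ.preimage_mono (inf_le_right : U i ⊓ U k ≤ U k)) (oneO S.Y (S.σ ⁻¹ᵁ U k)) from
      (map_one (S.Y.presheaf.map _).hom).trans (map_one (S.Y.presheaf.map _).hom).symm]
    abel
  obtain ⟨β, hβ⟩ := hKun γ hcoc fun S _ => hsl S
  let b : ∀ i, Γ(F, U i) ⊗[A] K := fun i => act A F K (U i) (β i) (xb.1 i)
  refine ⟨⟨fun i => x' i - j.lTensor _ (b i), fun i k => ?_⟩, Subtype.ext (funext fun i => ?_)⟩
  · rw [map_sub, map_sub, ← lTensor_resT, ← lTensor_resT, sub_eq_sub_iff_sub_eq_sub, ← map_sub, ← hd]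
    congr 1
    rw [← hγ i k, hβ, act_res, act_res]
    simp only [map_sub, LinearMap.sub_apply]
    rw [← xb.2 i k]
  · show g.lTensor _ (x' i - j.lTensor _ (b i)) = x.1 i
    rw [map_sub, hx', ← LinearMap.comp_apply (g.lTensor _), ← LinearMap.lTensor_comp,
      hex.linearMap_comp_eq_zero, LinearMap.lTensor_zero]
    exact sub_zero _

end Groth.Agent.Cube7
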