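import Groth.Agent.Cube7.Sections
import Groth.Agent.Cube7.Obstruct
import Groth.Agent.AbSch7.NoethH0
import Groth.Agent.FBase64.ReducedModField
import Groth.Agent.Crv77.Degree
import Mathlib.RingTheory.Nakayama
import Mathlib.RingTheory.LocalRing.MaximalIdeal.Basic

/-! For a proper flat morphism whose fibres have only constant functions, compatible families of `O ⊗ M` are
constants, for every coefficient module. -/

set_option autoImplicit false
set_option maxSynthPendingDepth 6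
set_option synthInstance.maxHeartbeats 200000
set_option linter.style.haveILetI false
set_option backward.isDefEq.respectTransparency.types false

universe u

noncomputable section

open CategoryTheory CategoryTheory.Limits AlgebraicGeometry TopologicalSpace Opposite TensorProduct

namespace Groth.Agent.Cube7

open QC70 FF71 Mum71 Serre71 AbSch7

variable {A : Type u} [CommRing A] {Y : Scheme.{u}} [Y.Over (Spec (CommRingCat.of A))]

lemma exists_kap (B : Type u) [CommRing B] [Algebra A B] {V : Y.Opens} (hV : IsAffineOpen V) :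
    ∃ E : Γ(Om Y, V) ⊗[A] B →+ Γ(bc A Y B, bcπ A Y B ⁻¹ᵁ V), Function.Bijective E ∧
      ∀ (r : Γ(Om Y, V)) (b : B), E (r ⊗ₜ b) =
        (bcπ A Y B).app V r * rA B (bc A Y B) (bcπ A Y B ⁻¹ᵁ V) b := by
  letI := (rA A Y V).toAlgebra
  obtain ⟨e, he1, he2⟩ := exists_bc_equiv A Y B hV
  let m : Γ(Om Y, V) →ₗ[A] Γ(Y, V) :=
    { toFun := fun r => (show Γ(Y, V) from r), map_add' := fun _ _ => rfl, map_smul' := fun _ _ => rfl }
  let m' : Γ(Y, V) →ₗ[A] Γ(Om Y, V) :=
    { toFun := fun r => (show Γ(Om Y, V) from r), map_add' := fun _ _ => rfl, map_smul' := fun _ _ => rfl }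
  let le : Γ(Om Y, V) ≃ₗ[A] Γ(Y, V) :=
    LinearEquiv.ofLinearMap m m' (LinearMap.ext fun _ => rfl) (LinearMap.ext fun _ => rfl)
  refine ⟨e.toAddMonoidHom.comp (TensorProduct.congr le (LinearEquiv.refl A B)).toLinearMap.toAddMonoidHom,
    e.bijective.comp (TensorProduct.congr le (LinearEquiv.refl A B)).bijective, fun r b => ?_⟩
  show e ((show Γ(Y, V) from r) ⊗ₜ[A] b) = _
  rw [← he1, ← he2, ← map_mul, Algebra.TensorProduct.tmul_mul_tmul, mul_one, one_mul]

variable {ι : Type u} {U : ι → Y.Opens}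

/-- The family of ones. -/
def oneFam (U : ι → Y.Opens) : Fam A (Om Y) U A :=
  ⟨fun i => oneO Y (U i) ⊗ₜ 1, fun i j => by
    show resL (Om Y) _ (oneO Y (U i)) ⊗ₜ[A] (1 : A) = resL (Om Y) _ (oneO Y (U j)) ⊗ₜ[A] (1 : A)
    exact congrArg (· ⊗ₜ[A] (1 : A))
      ((map_one (Y.presheaf.map _).hom).trans (map_one (Y.presheaf.map _).hom).symm)⟩

lemma famMap_oneFam {M : Type u} [AddCommGroup M] [Module A M] (m : M) (i : ι) :
    (famMap (Om Y) U (LinearMap.toSpanSingleton A M m) (oneFam U)).1 i = oneO Y (U i) ⊗ₜ m := by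
  show oneO Y (U i) ⊗ₜ ((1 : A) • m) = _
  rw [one_smul]

lemma famMap_famMap {F : Y.Modules} {M M' M'' : Type u} [AddCommGroup M] [Module A M] [AddCommGroup M']
    [Module A M'] [AddCommGroup M''] [Module A M''] (g : M →ₗ[A] M') (g' : M' →ₗ[A] M'') (x : Fam A F U M) :
    famMap F U g' (famMap F U g x) = famMap F U (g' ∘ₗ g) x :=
  Subtype.ext (funext fun _ => (LinearMap.lTensor_comp_apply _ _ _ _).symm)

variable (hU : ⨆ i, U i = ⊤) (hU₁ : ∀ i, IsAffineOpen (U i)) (hU₂ : ∀ i j, IsAffineOpen (U i ⊓ U j))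
  (h0 : H0Fib (Y ↘ Spec (CommRingCat.of A)))

include hU hU₁ hU₂ h0 in
/-- Over a field only constants are compatible. -/
theorem fam_field (K : Type u) [Field K] [Algebra A K] (z : Fam A (Om Y) U K) :
    ∃ k : K, ∀ i, z.1 i = oneO Y (U i) ⊗ₜ k := by
  let T := bc A Y K
  let π := bcπ A Y K
  choose E hE hEt using fun (V : {V : Y.Opens // IsAffineOpen V}) => exists_kap (A := A) K V.2
  have nat : ∀ {V W : Y.Opens} (hV : IsAffineOpen V) (hW : IsAffineOpen W) (h : W ≤ V)
      (x : Γ(Om Y, V) ⊗[A] K),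
      E ⟨W, hW⟩ (resT (Om Y) h K x) = resO T (π.preimage_mono h) (E ⟨V, hV⟩ x) := by
    intro V W hV hW h x
    induction x using TensorProduct.induction_on with
    | zero => simp only [map_zero]
    | add a b ha hb => simp only [map_add, ha, hb]
    | tmul r b =>
      show E ⟨W, hW⟩ (resL (Om Y) h r ⊗ₜ b) = _
      rw [hEt, hEt]
      refine Eq.trans ?_ (map_mul (T.presheaf.map (homOfLE (π.preimage_mono h)).op).hom _ _).symm
      exact congrArg₂ (· * ·) (ConcreteCategory.congr_hom (π.naturality (homOfLE h).op) r)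
        (resO_rA K T (π.preimage_mono h) b).symm
  let S : TopCat.Sheaf CommRingCat.{u} T := T.sheaf
  have hcov : (⊤ : T.Opens) ≤ ⨆ i, π ⁻¹ᵁ U i := by rw [← Scheme.Hom.preimage_iSup, hU]; rfl
  obtain ⟨f, hf, -⟩ := TopCat.Sheaf.existsUnique_gluing' S (fun i => π ⁻¹ᵁ U i) ⊤ (fun i => homOfLE le_top)
    hcov (fun i => E ⟨U i, hU₁ i⟩ (z.1 i)) (fun i j => by
      show resO T (π.preimage_mono (inf_le_left : U i ⊓ U j ≤ U i)) (E ⟨U i, hU₁ i⟩ (z.1 i)) =
        resO T (π.preimage_mono (inf_le_right : U i ⊓ U j ≤ U j)) (E ⟨U j, hU₁ j⟩ (z.1 j))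
      rw [← nat (hU₁ i) (hU₂ i j) inf_le_left, ← nat (hU₁ j) (hU₂ i j) inf_le_right, z.2 i j])
  obtain ⟨c, hc⟩ := (h0 K (Spec.map (CommRingCat.ofHom (algebraMap A K)))).2 f
  refine ⟨(Scheme.ΓSpecIso (CommRingCat.of K)).hom c, fun i => (hE ⟨U i, hU₁ i⟩).1 ?_⟩
  rw [hEt, ← hf i]
  refine Eq.trans (congrArg (fun t => (T.presheaf.map (homOfLE le_top).op).hom t) hc.symm) ?_
  refine (congrArg (fun t => (T.presheaf.map (homOfLE le_top).op).hom
    ((T ↘ Spec (CommRingCat.of K)).appTop.hom t)) ((ConcreteCategory.congr_hom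
      (Scheme.ΓSpecIso (CommRingCat.of K)).hom_inv_id c).symm)).trans ?_
  refine Eq.trans ?_ (congrArg (· * _) (map_one (π.app (U i)).hom)).symm
  exact (one_mul _).symm

include hU hU₁ h0 in
/-- Constants are not zero. -/
theorem one_tmul_ne_zero (K : Type u) [Field K] [Algebra A K]
    (h : ∀ i, oneO Y (U i) ⊗ₜ[A] (1 : K) = 0) : False := by
  let T := bc A Y K
  let π := bcπ A Y K
  haveI : Nonempty T := by
    obtain ⟨t, -⟩ := (surjective_of_h0Fib (H0Fib.of_isPullback (IsPullback.of_hasPullback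
      (Y ↘ Spec (CommRingCat.of A)) (Spec.map (CommRingCat.ofHom (algebraMap A K)))) h0)).surj
      (default : Spec (CommRingCat.of K))
    exact ⟨t⟩
  obtain ⟨t⟩ := ‹Nonempty T›
  obtain ⟨i, hi⟩ := Opens.mem_iSup.1 (hU.ge (show π t ∈ (⊤ : Y.Opens) from trivial))
  obtain ⟨E, hE, hEt⟩ := exists_kap (A := A) K (hU₁ i)
  have h1 := hEt (oneO Y (U i)) 1
  rw [h i, map_zero] at h1
  have h2 : (0 : Γ(T, π ⁻¹ᵁ U i)) = 1 := h1.trans
    ((congrArg₂ (· * ·) (map_one (π.app (U i)).hom) (map_one (rA K T _))).trans (mul_one 1))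
  have := congrArg (T.presheaf.germ (π ⁻¹ᵁ U i) t hi).hom h2
  rw [map_zero, map_one] at this
  exact zero_ne_one this

include hU hU₁ hU₂ h0 in
/-- **Only constants are compatible**, for every coefficient module. -/
theorem fam_const [IsNoetherianRing A] [IsProper (Y ↘ Spec (CommRingCat.of A))]
    [Flat (Y ↘ Spec (CommRingCat.of A))] (M : ModuleCat.{u} A) (z : Fam A (Om Y) U M) :
    ∃ m : M, ∀ i, z.1 i = oneO Y (U i) ⊗ₜ m := by
  haveI : IsLocallyNoetherian Y := LocallyOfFiniteType.isLocallyNoetherian (Y ↘ Spec (CommRingCat.of A))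
  haveI : (Om Y).IsQuasicoherent := (Crv77.isCoh_structureModule (X := Y)).1
  obtain ⟨Q, hQ, e, he⟩ := exists_corep_fam (Om Y) hU hU₁ hU₂ Crv77.isCoh_structureModule
    (FBase64.RedField.isFlatOver_structure (Y ↘ Spec (CommRingCat.of A)))
  let u : Q →ₗ[A] A := (e (ModuleCat.of A A)).symm (oneFam U)
  have hu : e (ModuleCat.of A A) u = oneFam U := (e (ModuleCat.of A A)).apply_symm_apply _
  have hspan : ∀ {N : Type u} [AddCommGroup N] [Module A N] (n : N) (i : ι),
      (e (ModuleCat.of A N) (LinearMap.toSpanSingleton A N n ∘ₗ u)).1 i = oneO Y (U i) ⊗ₜ n := by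
    intro N _ _ n i
    rw [show e (ModuleCat.of A N) (LinearMap.toSpanSingleton A N n ∘ₗ u) =
      famMap (Om Y) U (LinearMap.toSpanSingleton A N n) (oneFam U) from
      (he (ModuleCat.of A A) (ModuleCat.of A N) (ModuleCat.ofHom (LinearMap.toSpanSingleton A N n)) u).trans
        (congrArg _ hu), famMap_oneFam]
  obtain ⟨q₀, hq₀⟩ : ∃ q, u q = 1 := by
    suffices h : LinearMap.range u = ⊤ from LinearMap.range_eq_top.1 h 1
    by_contra hne
    obtain ⟨m, hm, hle⟩ := Ideal.exists_le_maximal (LinearMap.range u) hne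
    letI : Field (A ⧸ m) := Ideal.Quotient.field m
    refine one_tmul_ne_zero hU hU₁ h0 (A ⧸ m) fun i => ?_
    have h1 : LinearMap.toSpanSingleton A (A ⧸ m) 1 ∘ₗ u = LinearMap.toSpanSingleton A (A ⧸ m) 0 ∘ₗ u := by
      ext q
      show u q • (1 : A ⧸ m) = u q • (0 : A ⧸ m)
      rw [smul_zero, Algebra.smul_def, mul_one]
      exact Ideal.Quotient.eq_zero_iff_mem.2 (hle ⟨q, rfl⟩)
    rw [← hspan (1 : A ⧸ m) i, h1, hspan, TensorProduct.tmul_zero]
  let P : Submodule A Q := LinearMap.ker u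
  haveI : IsNoetherian A Q := isNoetherian_of_isNoetherianRing_of_finite A Q
  let pr : Q →ₗ[A] P := LinearMap.codRestrict P (LinearMap.id - LinearMap.toSpanSingleton A Q q₀ ∘ₗ u) fun q => by
    show u (q - u q • q₀) = 0
    rw [map_sub, map_smul, hq₀, smul_eq_mul, mul_one, sub_self]
  have hP : ∀ q : P, (q : Q) = 0 := by
    have hsub : ∀ m : Ideal A, m.IsMaximal → (⊤ : Submodule A P) ≤ m • ⊤ := by
      intro m hm
      letI : Field (A ⧸ m) := Ideal.Quotient.field m
      letI : Module (A ⧸ m) (P ⧸ (m • ⊤ : Submodule A P)) := inferInstance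
      intro x _
      by_contra hx
      obtain ⟨μ, hμ⟩ : ∃ μ : (P ⧸ (m • ⊤ : Submodule A P)) →ₗ[A ⧸ m] (A ⧸ m),
          μ (Submodule.Quotient.mk x) ≠ 0 := by
        by_contra hc
        push Not at hc
        refine hx ((Submodule.Quotient.mk_eq_zero _).1 ?_)
        exact (Module.forall_dual_apply_eq_zero_iff (A ⧸ m) _).1 hc
      let ψ : Q →ₗ[A] A ⧸ m := (μ.restrictScalars A ∘ₗ (m • ⊤ : Submodule A P).mkQ) ∘ₗ pr
      obtain ⟨c, hc⟩ := fam_field hU hU₁ hU₂ h0 (A ⧸ m) (e (ModuleCat.of A (A ⧸ m)) ψ)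
      have h1 : ψ = LinearMap.toSpanSingleton A (A ⧸ m) c ∘ₗ u :=
        (e (ModuleCat.of A (A ⧸ m))).injective (Subtype.ext (funext fun i => (hc i).trans (hspan c i).symm))
      refine hμ ?_
      have h2 := LinearMap.congr_fun h1 (x : Q)
      have h3 : pr (x : Q) = x := Subtype.ext (by
        show (x : Q) - u (x : Q) • q₀ = x
        rw [x.2, zero_smul, sub_zero])
      rw [LinearMap.comp_apply, LinearMap.comp_apply, h3] at h2
      refine h2.trans ?_
      show u (x : Q) • c = 0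
      rw [x.2, zero_smul]
    intro q
    have hbot : ∀ m : Ideal A, m.IsMaximal → ∃ r ∉ m, r • q = 0 := by
      intro m hm
      obtain ⟨r, hr, hr0⟩ := Submodule.exists_sub_one_mem_and_smul_eq_zero_of_fg_of_le_smul m
        (⊤ : Submodule A P) Module.Finite.fg_top (hsub m hm)
      refine ⟨r, fun hrm => hm.ne_top (m.eq_top_iff_one.2 ?_), hr0 q trivial⟩
      have := m.sub_mem hrm hr
      rwa [sub_sub_cancel] at this
    by_contra hq
    have hne : Submodule.colon (⊥ : Submodule A P) {q} ≠ ⊤ := fun htop => hq (by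
      have h1 : (1 : A) ∈ Submodule.colon (⊥ : Submodule A P) {q} := htop ▸ Submodule.mem_top
      rw [Submodule.mem_colon_singleton, one_smul, Submodule.mem_bot] at h1
      exact congrArg Subtype.val h1)
    obtain ⟨m, hm, hle⟩ := Ideal.exists_le_maximal _ hne
    obtain ⟨r, hr, hr0⟩ := hbot m hm
    exact hr (hle (Submodule.mem_colon_singleton.2 ((Submodule.mem_bot A).2 hr0)))
  let φ := (e M).symm z
  refine ⟨φ q₀, fun i => ?_⟩
  have hφ : φ = LinearMap.toSpanSingleton A M (φ q₀) ∘ₗ u := by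
    ext q
    have h1 : q - u q • q₀ = 0 := hP (pr q)
    show φ q = u q • φ q₀
    rw [← map_smul, ← sub_eq_zero, ← map_sub, h1, map_zero]
  have := hspan (φ q₀) i
  rw [← hφ] at this
  exact (congrArg (fun w : Fam A (Om Y) U M => w.1 i) ((e M).apply_symm_apply z)).symm.trans this

/-- Sections over affine opens of a flat scheme are flat. -/
lemma flat_om [Flat (Y ↘ Spec (CommRingCat.of A))] {V : Y.Opens} (hV : IsAffineOpen V) :
    Module.Flat A Γ(Om Y, V) := by
  have h := Flat.flat_appLE (Y ↘ Spec (CommRingCat.of A)) (isAffineOpen_top _) hV (le_top : V ≤ _)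
  letI := (rA A Y V).toAlgebra
  have h2 : (rA A Y V).Flat := by
    rw [show rA A Y V = ((Y ↘ Spec (CommRingCat.of A)).appLE ⊤ V le_top).hom.comp
      (Scheme.ΓSpecIso (CommRingCat.of A)).inv.hom from
      congrArg CommRingCat.Hom.hom (rA_eq_appLE A Y V)]
    exact RingHom.Flat.comp
      (RingHom.Flat.of_bijective (ConcreteCategory.bijective_of_isIso (Scheme.ΓSpecIso (CommRingCat.of A)).inv)) h
  haveI : Module.Flat A Γ(Y, V) := h2
  exact Module.Flat.of_linearEquiv
    ({ toFun := fun r => (show Γ(Y, V) from r), invFun := fun r => (show Γ(Om Y, V) from r),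
       map_add' := fun _ _ => rfl, map_smul' := fun _ _ => rfl, left_inv := fun _ => rfl,
       right_inv := fun _ => rfl } : Γ(Om Y, V) ≃ₗ[A] Γ(Y, V))

end Groth.Agent.Cube7
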