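import Groth.Agent.Cube7.PicCalc
import Groth.Agent.Cube7.AbGeom
import Groth.Agent.Cube73.Triple

/-!
The theorem of the cube for an abelian scheme: the cubical combination of pullbacks of an invertible
module along three points is trivial.
-/

set_option autoImplicit false
set_option maxSynthPendingDepth 6
set_option linter.style.haveILetI false
set_option backward.isDefEq.respectTransparency.types false

noncomputable section

universe u

open CategoryTheory CategoryTheory.Limits MonoidalCategory CartesianMonoidalCategory MonObj GrpObj AlgebraicGeometry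
open Groth.Agent.Cube7.PicCalc

namespace Groth.Agent.Cube7

theorem trivAt_of_pullback {Z T : Scheme.{u}} (D : Cube73.Datum Z) (hX : GeometricallyIntegral D.qX)
    (hY : GeometricallyIntegral D.qY) (g : T ⟶ Z)
    (h : Nonempty ((Scheme.Modules.pullback (pullback.fst D.q g)).obj D.L ≅ Coh.structureModule _)) (t : T) :
    D.TrivAt (g t) :=
  (D.bcBC g).trivAt_of t (D.h0At hX hY _)
    ⟨(Scheme.Modules.pullback ((D.bc g).q.fiberι t)).mapIso h.some ≪≫ PicLoc.pullbackStructureIso _⟩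

variable {S : Scheme.{u}} (X : Over S) [GrpObj X] (l : PicLoc.PicSet X.left)

/-- The class of the pullback along a point. -/
def pt {T : Over S} (x : T ⟶ X) : PicLoc.PicSet T.left := pb x.left l

/-- The cubical combination of three points. -/
def cubeCl {T : Over S} (x₁ x₂ x₃ : T ⟶ X) : PicLoc.PicSet T.left :=
  (pt X l (x₁ * x₂ * x₃) * pt X l x₁ * pt X l x₂ * pt X l x₃) /
    (pt X l (x₁ * x₂) * pt X l (x₁ * x₃) * pt X l (x₂ * x₃) * pt X l 1)

theorem pb_pt {T T' : Over S} (g : T' ⟶ T) (x : T ⟶ X) : pb g.left (pt X l x) = pt X l (g ≫ x) := by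
  rw [pt, pt, Over.comp_left, pb_comp]

theorem pb_cubeCl {T T' : Over S} (g : T' ⟶ T) (x₁ x₂ x₃ : T ⟶ X) :
    pb g.left (cubeCl X l x₁ x₂ x₃) = cubeCl X l (g ≫ x₁) (g ≫ x₂) (g ≫ x₃) := by
  simp only [cubeCl, map_div, map_mul, pb_pt, MonObj.comp_mul, MonObj.comp_one]

theorem cubeCl_one₁ {T : Over S} (x₂ x₃ : T ⟶ X) : cubeCl X l 1 x₂ x₃ = 1 := by
  simp only [cubeCl, _root_.one_mul]
  rw [div_eq_one]; ac_rfl

theorem cubeCl_one₂ {T : Over S} (x₁ x₃ : T ⟶ X) : cubeCl X l x₁ 1 x₃ = 1 := by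
  simp only [cubeCl, _root_.one_mul, _root_.mul_one]
  rw [div_eq_one]; ac_rfl

theorem cubeCl_one₃ {T : Over S} (x₁ x₂ : T ⟶ X) : cubeCl X l x₁ x₂ 1 = 1 := by
  simp only [cubeCl, _root_.mul_one]
  exact div_self' _

/-- The triple product. -/
abbrev tri : Over S :=
  Over.mk (pullback.snd (pullback.fst X.hom X.hom ≫ X.hom) X.hom ≫ X.hom)

/-- The first projection. -/
def pr₁ : tri X ⟶ X :=
  Over.homMk (pullback.fst (pullback.fst X.hom X.hom ≫ X.hom) X.hom ≫ pullback.fst X.hom X.hom)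
    (by simp only [Over.mk_hom, Category.assoc]; exact pullback.condition)

/-- The second projection. -/
def pr₂ : tri X ⟶ X :=
  Over.homMk (pullback.fst (pullback.fst X.hom X.hom ≫ X.hom) X.hom ≫ pullback.snd X.hom X.hom)
    (by simp only [Over.mk_hom, Category.assoc, ← pullback.condition (f := X.hom) (g := X.hom)]
        exact pullback.condition)

/-- The third projection. -/
def pr₃ : tri X ⟶ X := Over.homMk (pullback.snd (pullback.fst X.hom X.hom ≫ X.hom) X.hom) rfl

theorem one_left (T : Over S) : (1 : T ⟶ X).left = T.hom ≫ η[X].left := by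
  rw [Hom.one_def, Over.comp_left, Over.toUnit_left]

theorem unit_hom : η[X].left ≫ X.hom = 𝟙 S := (Over.w η[X]).trans rfl

theorem cubeCl_eq_one_of_map {W : Scheme.{u}} (f : W ⟶ (tri X).left)
    (i : ∀ g : Over.mk (f ≫ (tri X).hom) ⟶ tri X, g.left = f →
      g ≫ pr₁ X = 1 ∨ g ≫ pr₂ X = 1 ∨ g ≫ pr₃ X = 1) :
    pb f (cubeCl X l (pr₁ X) (pr₂ X) (pr₃ X)) = 1 := by
  let g : Over.mk (f ≫ (tri X).hom) ⟶ tri X := Over.homMk f rfl
  have hg : pb f (cubeCl X l (pr₁ X) (pr₂ X) (pr₃ X)) = pb g.left (cubeCl X l (pr₁ X) (pr₂ X) (pr₃ X)) := rfl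
  rw [hg, pb_cubeCl]
  rcases i g rfl with h | h | h <;> rw [h]
  · exact cubeCl_one₁ X l _ _
  · exact cubeCl_one₂ X l _ _
  · exact cubeCl_one₃ X l _ _

variable [IsProper X.hom] [Flat X.hom] [LocallyOfFinitePresentation X.hom] [GeometricallyReduced X.hom]
  [GeometricallyConnected X.hom]

theorem cubeCl_univ : cubeCl X l (pr₁ X) (pr₂ X) (pr₃ X) = 1 := by
  haveI := geometricallyIntegral_of_group X
  obtain ⟨L, hL, hc⟩ := PicGrp.exists_eq_cls (cubeCl X l (pr₁ X) (pr₂ X) (pr₃ X))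
  have key : ∀ {W : Scheme.{u}} (f : W ⟶ (tri X).left),
      (∀ g : Over.mk (f ≫ (tri X).hom) ⟶ tri X, g.left = f →
        g ≫ pr₁ X = 1 ∨ g ≫ pr₂ X = 1 ∨ g ≫ pr₃ X = 1) →
      Nonempty ((Scheme.Modules.pullback f).obj L ≅ Coh.structureModule W) := by
    intro W f i
    have := cubeCl_eq_one_of_map X l f i
    rwa [hc, pb_cls, PicGrp.cls_eq_one_iff] at this
  let D₀ := Cube73.unitDatum X.hom X.hom η[X].left (unit_hom X) η[X].left (unit_hom X)
  have h₁ : Nonempty ((Scheme.Modules.pullback (Cube73.Datum.bcHom X.hom D₀.ix D₀.ix_q)).obj L ≅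
      Coh.structureModule _) := key _ fun g hg => Or.inl (Over.OverMorphism.ext (by
    rw [Over.comp_left, hg, one_left]
    show Cube73.Datum.bcHom X.hom D₀.ix D₀.ix_q ≫ pullback.fst D₀.q X.hom ≫ D₀.a =
      (Cube73.Datum.bcHom X.hom D₀.ix D₀.ix_q ≫ pullback.snd D₀.q X.hom ≫ X.hom) ≫ η[X].left
    rw [reassoc_of% Cube73.Datum.bcHom_fst X.hom D₀.ix D₀.ix_q, D₀.hix,
      reassoc_of% Cube73.Datum.bcHom_snd X.hom D₀.ix D₀.ix_q, ← Category.assoc, pullback.condition]))
  have h₂ : Nonempty ((Scheme.Modules.pullback (Cube73.Datum.bcHom X.hom D₀.iy D₀.iy_q)).obj L ≅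
      Coh.structureModule _) := key _ fun g hg => Or.inr (Or.inl (Over.OverMorphism.ext (by
    rw [Over.comp_left, hg, one_left]
    show Cube73.Datum.bcHom X.hom D₀.iy D₀.iy_q ≫ pullback.fst D₀.q X.hom ≫ D₀.b =
      (Cube73.Datum.bcHom X.hom D₀.iy D₀.iy_q ≫ pullback.snd D₀.q X.hom ≫ X.hom) ≫ η[X].left
    rw [reassoc_of% Cube73.Datum.bcHom_fst X.hom D₀.iy D₀.iy_q, D₀.hiy,
      reassoc_of% Cube73.Datum.bcHom_snd X.hom D₀.iy D₀.iy_q, ← Category.assoc, pullback.condition])))
  let D := Cube73.tripleDatum X.hom X.hom η[X].left (unit_hom X) η[X].left (unit_hom X) X.hom L hL h₁ h₂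
  have hX' : GeometricallyIntegral D.qX := inferInstanceAs (GeometricallyIntegral (pullback.snd X.hom X.hom))
  have hY' : GeometricallyIntegral D.qY := inferInstanceAs (GeometricallyIntegral (pullback.snd X.hom X.hom))
  have hsec : ∀ s : S, D.TrivAt (η[X].left s) := by
    refine trivAt_of_pullback D hX' hY' η[X].left ?_
    refine key _ fun g hg => Or.inr (Or.inr (Over.OverMorphism.ext ?_))
    have hq : D.q = pullback.snd (pullback.fst X.hom X.hom ≫ X.hom) X.hom := D₀.bc_q X.hom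
    have h' : pullback.fst D.q η[X].left ≫ pullback.snd (pullback.fst X.hom X.hom ≫ X.hom) X.hom =
        pullback.snd D.q η[X].left ≫ η[X].left :=
      (congrArg (fun t => pullback.fst D.q η[X].left ≫ t) hq.symm).trans pullback.condition
    have hh : pullback.snd D.q η[X].left =
        pullback.fst D.q η[X].left ≫ pullback.snd (pullback.fst X.hom X.hom ≫ X.hom) X.hom ≫ X.hom :=
      ((Category.comp_id _).symm.trans (congrArg (pullback.snd D.q η[X].left ≫ ·) (unit_hom X).symm)).trans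
        ((Category.assoc _ _ _).symm.trans ((congrArg (· ≫ X.hom) h'.symm).trans (Category.assoc _ _ _)))
    rw [Over.comp_left, hg, one_left]
    exact h'.trans (congrArg (· ≫ η[X].left) hh)
  have hall : ∀ z, D.TrivAt z := by
    intro z
    have hconn : _root_.IsPreconnected (X.hom ⁻¹' {X.hom z}) := by
      rw [← X.hom.range_fiberι (X.hom z), ← Set.image_univ]
      exact isPreconnected_univ.image _ (X.hom.fiberι (X.hom z)).continuous.continuousOn
    have hz : X.hom (η[X].left (X.hom z)) = X.hom z := by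
      rw [← Scheme.Hom.comp_apply, unit_hom]; rfl
    exact hconn.subset_isClopen ⟨D.isClosed_trivAt_of_integral hX' hY', D.isOpen_trivAt hX' hY'⟩
      ⟨_, hz, hsec (X.hom z)⟩ (rfl : z ∈ X.hom ⁻¹' {X.hom z})
  rw [hc, PicGrp.cls_eq_one_iff]
  exact D.trivial_of_trivAt hX' hY' hall

/-- The cubical combination of any three points of an abelian scheme is trivial. -/
theorem cubeCl_eq_one {T : Over S} (x₁ x₂ x₃ : T ⟶ X) : cubeCl X l x₁ x₂ x₃ = 1 := by
  let g : T ⟶ tri X := Over.homMk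
    (pullback.lift (pullback.lift x₁.left x₂.left (by rw [Over.w, Over.w])) x₃.left
      (by rw [pullback.lift_fst_assoc, Over.w, Over.w]))
    (by simp only [Over.mk_hom, pullback.lift_snd_assoc, Over.w])
  have h := congrArg (pb g.left) (cubeCl_univ X l)
  rw [map_one, pb_cubeCl] at h
  have e₁ : g ≫ pr₁ X = x₁ := Over.OverMorphism.ext ((pullback.lift_fst_assoc _ _ _ _).trans (pullback.lift_fst _ _ _))
  have e₂ : g ≫ pr₂ X = x₂ := Over.OverMorphism.ext ((pullback.lift_fst_assoc _ _ _ _).trans (pullback.lift_snd _ _ _))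
  have e₃ : g ≫ pr₃ X = x₃ := Over.OverMorphism.ext (pullback.lift_snd _ _ _)
  rwa [e₁, e₂, e₃] at h

end Groth.Agent.Cube7
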