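import Groth.Agent.Cube7.FibreClosed
import Groth.Agent.Cube7.Seesaw
import Groth.Agent.Cube73.Main
import Groth.Agent.AbSch7.PushO
import Groth.Agent.FBase64.Geometric

/-!
The theorem of the cube over a locally Noetherian connected parameter scheme when the second factor is
only geometrically reduced and geometrically connected.
-/

set_option autoImplicit false
set_option maxSynthPendingDepth 6
set_option linter.style.haveILetI false
set_option backward.isDefEq.respectTransparency.types false

noncomputable section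

universe u

open CategoryTheory Limits AlgebraicGeometry TopologicalSpace Opposite
open Groth.Agent.Var76 Groth.Agent.Var76.LineBundle

namespace Groth.Agent.Cube7

/-- Triviality on a fibre is inherited by the fibres of a map of morphisms. -/
theorem trivFib_of_map {P B P' B' : Scheme.{u}} {f : P ⟶ B} {f' : P' ⟶ B'} {g' : P' ⟶ P} {g : B' ⟶ B}
    (h : g' ≫ f = f' ≫ g) {L : P.Modules} (w : B')
    (ht : Nonempty ((Scheme.Modules.pullback (f.fiberι (g w))).obj L ≅ Coh.structureModule (f.fiber (g w)))) :
    Nonempty ((Scheme.Modules.pullback (f'.fiberι w)).obj ((Scheme.Modules.pullback g').obj L) ≅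
      Coh.structureModule (f'.fiber w)) := by
  let j : f'.fiber w ⟶ f.fiber (g w) :=
    pullback.lift (f'.fiberι w ≫ g') (f'.fiberToSpecResidueField w ≫ Spec.map (g.residueFieldMap w)) (by
      rw [Category.assoc, h, reassoc_of% f'.fiber_fac w, Category.assoc,
        Scheme.Hom.SpecMap_residueFieldMap_fromSpecResidueField])
  exact Cube73.Datum.triv_comp (i := f.fiberι (g w)) (gV := j) (pullback.lift_fst _ _ _).symm ht.some

variable {Z : Scheme.{u}} (D : Cube73.Datum Z)

/-- The fibrewise trivial locus over the second factor. -/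
def trivW : Set D.Y :=
  {w | Nonempty ((Scheme.Modules.pullback (D.b.fiberι w)).obj D.L ≅ Coh.structureModule (D.b.fiber w))}

section

variable [GeometricallyIntegral D.qX]

theorem geometricallyIntegral_b : GeometricallyIntegral D.b :=
  MorphismProperty.of_isPullback (P := @GeometricallyIntegral) D.H inferInstance

theorem isProper_b : IsProper D.b := MorphismProperty.of_isPullback (P := @IsProper) D.H D.properX

theorem flat_b : Flat D.b := MorphismProperty.of_isPullback (P := @Flat) D.H D.flatX

theorem h0Fib_b : AbSch7.H0Fib D.b := by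
  haveI := geometricallyIntegral_b D
  haveI := isProper_b D
  haveI := FBase64.geometricallyConnected_of_geometricallyIrreducible D.b
  exact AbSch7.H0Fib.of_geometrically D.b

theorem isClosed_trivW [IsLocallyNoetherian D.Y] : IsClosed (trivW D) := by
  haveI := geometricallyIntegral_b D
  haveI := isProper_b D
  haveI := flat_b D
  refine isClosed_trivFib D.b (fun y => ?_) (fun y => isField_Γ_fiber (h0Fib_b D) y) D.hL
  haveI : GeometricallyIntegral (D.b.fiberToSpecResidueField y) :=
    inferInstanceAs (GeometricallyIntegral (pullback.snd D.b _))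
  exact GeometricallyIntegral.isIntegral_of_subsingleton (D.b.fiberToSpecResidueField y)

theorem trivial_of_trivW [IsReduced D.Y] [IsLocallyNoetherian D.Y] (h : trivW D = Set.univ) :
    Nonempty (D.L ≅ Coh.structureModule D.P) := by
  haveI := isProper_b D
  haveI := flat_b D
  exact Cube73.trivial_of_local D.b D.hL (AbSch7.app_bijective D.b (h0Fib_b D)) D.ix D.hix' D.trivY
    (exists_nhd_frame D.b (h0Fib_b D) D.L D.hL fun w => (h.ge (Set.mem_univ w) : w ∈ trivW D))

variable [GeometricallyReduced D.qY] [GeometricallyConnected D.qY]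

theorem h0At (z : Z) : D.H0At z := by
  haveI := FBase64.geometricallyConnected_of_geometricallyIrreducible D.qX
  exact ⟨AbSch7.H0Fib.of_geometrically D.qX _ (Z.fromSpecResidueField z),
    AbSch7.H0Fib.of_geometrically D.qY _ (Z.fromSpecResidueField z)⟩

theorem trivAt_of_trivW [IsLocallyNoetherian Z] (z : Z) (h : D.qY ⁻¹' {z} ⊆ trivW D) : D.TrivAt z := by
  let g := Z.fromSpecResidueField z
  let D' := D.bc g
  haveI : GeometricallyIntegral D'.qX := inferInstanceAs (GeometricallyIntegral (pullback.snd D.qX g))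
  haveI : LocallyOfFiniteType D'.qY := inferInstanceAs (LocallyOfFiniteType (pullback.snd D.qY g))
  haveI : IsLocallyNoetherian D'.Y := LocallyOfFiniteType.isLocallyNoetherian D'.qY
  haveI : IsReduced D'.Y := by
    haveI : GeometricallyReduced D'.qY := inferInstanceAs (GeometricallyReduced (pullback.snd D.qY g))
    exact GeometricallyReduced.isReduced_of_flat_of_isLocallyNoetherian D'.qY
  have hall : trivW D' = Set.univ := Set.eq_univ_of_forall fun w => by
    have hw : D.qY (pullback.fst D.qY g w) = z := by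
      rw [← Scheme.Hom.comp_apply, pullback.condition, Scheme.Hom.comp_apply]
      exact Scheme.fromSpecResidueField_apply z _
    exact trivFib_of_map (g' := pullback.fst D.q g) (g := pullback.fst D.qY g)
      (Cube73.Datum.bcHom_fst g D.b D.q_eq).symm w (h hw)
  obtain ⟨e⟩ := trivial_of_trivW D' hall
  obtain ⟨p⟩ : Nonempty ↥(Spec (Z.residueField z)) := inferInstance
  have hp : g p = z := Scheme.fromSpecResidueField_apply z p
  have := (D.bcBC g).trivAt_of p (h0At D _)
    ⟨(Scheme.Modules.pullback (D'.q.fiberι p)).mapIso e ≪≫ PicLoc.pullbackStructureIso _⟩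
  rwa [hp] at this

theorem exists_nhd_trivW [IsLocallyNoetherian Z] {z : Z} (h : D.TrivAt z) :
    ∃ U : Z.Opens, z ∈ U ∧ D.qY ⁻¹' U ⊆ trivW D := by
  obtain ⟨U, hzU, e, he⟩ := D.frameAt_of_trivAt_noeth z (h0At D z) h
  refine ⟨U, hzU, fun w hw => ?_⟩
  let ι := D.b.fiberι w
  have htop : (⊤ : (D.b.fiber w).Opens) ≤ ι ⁻¹ᵁ (D.q ⁻¹ᵁ U) := fun v _ => by
    show D.q (ι v) ∈ U
    have hv : D.b (ι v) = w := by
      have : ι v ∈ D.b ⁻¹' {w} := by rw [← D.b.range_fiberι w]; exact Set.mem_range_self v
      exact this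
    rw [← D.q_eq, Scheme.Hom.comp_apply, hv]
    exact hw
  exact Cube73.iso_of_frame ((Props58.PullTensor.isFrame_pullS ι he).res htop)

/-- The theorem of the cube with a second factor that may be reducible. -/
theorem trivial_of_connected [IsLocallyNoetherian Z] [IsReduced D.Y] [IsLocallyNoetherian D.Y] [PreconnectedSpace Z]
    {z₀ : Z} (h₀ : D.TrivAt z₀) : Nonempty (D.L ≅ Coh.structureModule D.P) := by
  let G : Set Z := (D.qY '' (trivW D)ᶜ)ᶜ
  have hG : ∀ z, z ∈ G ↔ D.qY ⁻¹' {z} ⊆ trivW D := fun z =>
    ⟨fun hz w hw => not_not.1 fun hn => hz ⟨w, hn, hw⟩, fun hz ⟨w, hn, hw⟩ => hn (hz hw)⟩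
  have hcl : IsClosed G := (D.qY.isOpenMap _ (isClosed_trivW D).isOpen_compl).isClosed_compl
  have hop : IsOpen G := isOpen_iff_forall_mem_open.2 fun z hz => by
    obtain ⟨U, hzU, hU⟩ := exists_nhd_trivW D (trivAt_of_trivW D z ((hG z).1 hz))
    refine ⟨U, fun z' hz' => (hG z').2 fun w hw => hU ?_, U.2, hzU⟩
    rw [Set.mem_preimage, (hw : D.qY w = z')]; exact hz'
  have hne : z₀ ∈ G := by
    obtain ⟨U, hzU, hU⟩ := exists_nhd_trivW D h₀
    refine (hG z₀).2 fun w hw => hU ?_
    rw [Set.mem_preimage, (hw : D.qY w = z₀)]; exact hzU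
  have huniv : G = Set.univ := IsClopen.eq_univ ⟨hcl, hop⟩ ⟨z₀, hne⟩
  exact trivial_of_trivW D (Set.eq_univ_of_forall fun w => (hG (D.qY w)).1 (huniv.ge trivial) rfl)

end

end Groth.Agent.Cube7
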