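import Mathlib.Algebra.Module.FinitePresentation
import Mathlib.RingTheory.Localization.AtPrime.Basic
import Mathlib.RingTheory.LocalRing.ResidueField.Ideal
import Mathlib.RingTheory.Nakayama
import Mathlib.Algebra.Module.Torsion.Basic
import Mathlib.RingTheory.Noetherian.Basic
import Mathlib.LinearAlgebra.TensorProduct.Tower
import Mathlib.RingTheory.Localization.Submodule
import Mathlib.LinearAlgebra.Dual.Lemmas

/-! A finite module with one-dimensional dual at `p` and unobstructed small extensions has a map to the ring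
which does not vanish at `p`. -/

set_option autoImplicit false

universe u

open TensorProduct IsLocalRing

namespace Groth.Agent.Cube7

variable {A : Type u} [CommRing A] [IsNoetherianRing A] (p : Ideal A) [p.IsPrime]
variable {Q : Type u} [AddCommGroup Q] [Module A Q] [Module.Finite A Q]

local notation "R" => Localization.AtPrime p

theorem exists_extend
    (φ₀ : Q →ₗ[A] ResidueField R) (hne : φ₀ ≠ 0)
    (h1 : ∀ φ : Q →ₗ[A] ResidueField R, ∃ c : ResidueField R, φ = c • φ₀)
    (hlift : ∀ (a a' : Ideal R) (ha : a ≤ maximalIdeal R) (haa : a' ≤ a) (t : R), t ∈ a → t ∉ a' →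
      (∀ r ∈ maximalIdeal R, r * t ∈ a') → a' ⊔ Ideal.span {t} = a →
      ∀ φ : Q →ₗ[A] R ⧸ a, ((Ideal.Quotient.factor ha).toAddMonoidHom ∘ φ ≠ (0 : Q → R ⧸ maximalIdeal R)) →
        ∃ ψ : Q →ₗ[A] R ⧸ a', ∀ q, Ideal.Quotient.factor haa (ψ q) = φ q) :
    ∃ φ : Q →ₗ[A] A, ∃ q, φ q ∉ p := by
  classical
  let QR := R ⊗[A] Q
  have : IsNoetherianRing R := IsLocalization.isNoetherianRing p.primeCompl R inferInstance
  obtain ⟨q, hq⟩ : ∃ q, φ₀ q ≠ 0 := by
    by_contra h
    push Not at h
    exact hne (LinearMap.ext h)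
  let lft : ∀ {M : Type u} [AddCommGroup M] [Module A M] [Module R M] [IsScalarTower A R M],
      (Q →ₗ[A] M) → (QR →ₗ[R] M) := fun φ => LinearMap.liftBaseChange R φ
  let v : QR := 1 ⊗ₜ q
  have hv : Submodule.span R {v} = ⊤ := by
    refine top_le_iff.1 (Submodule.le_of_le_smul_of_le_jacobson_bot Module.Finite.fg_top
      (IsLocalRing.maximalIdeal_le_jacobson ⊥) ?_)
    intro x _
    by_contra hx
    let W := Submodule.span R {v} ⊔ maximalIdeal R • (⊤ : Submodule R QR)
    let V := QR ⧸ W
    have hmV : ∀ r ∈ maximalIdeal R, ∀ y : V, r • y = 0 := by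
      intro r hr y
      obtain ⟨y, rfl⟩ := W.mkQ_surjective y
      rw [← map_smul, Submodule.mkQ_apply, Submodule.Quotient.mk_eq_zero]
      exact Submodule.mem_sup_right (Submodule.smul_mem_smul hr Submodule.mem_top)
    letI : Module (R ⧸ maximalIdeal R) V := Module.IsTorsionBySet.module (fun y r => hmV r r.2 y)
    letI : Module (ResidueField R) V := inferInstanceAs (Module (R ⧸ maximalIdeal R) V)
    haveI : IsScalarTower R (ResidueField R) V :=
      IsScalarTower.of_algebraMap_smul fun r y => Module.IsTorsionBySet.mk_smul (fun y r => hmV r r.2 y) r y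
    have hxV : W.mkQ x ≠ 0 := by rwa [Submodule.mkQ_apply, ne_eq, Submodule.Quotient.mk_eq_zero]
    obtain ⟨L, hL⟩ : ∃ L : V →ₗ[ResidueField R] ResidueField R, L (W.mkQ x) ≠ 0 := by
      by_contra h
      push Not at h
      exact hxV ((Module.forall_dual_apply_eq_zero_iff (ResidueField R) _).1 h)
    let ψ : QR →ₗ[R] ResidueField R := (L.restrictScalars R).comp W.mkQ
    let φ : Q →ₗ[A] ResidueField R := (ψ.restrictScalars A).comp (TensorProduct.mk A R Q 1)
    obtain ⟨c, hc⟩ := h1 φ
    have hc0 : c = 0 := by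
      have : φ q = 0 := by
        show L (W.mkQ v) = 0
        rw [show W.mkQ v = 0 from (Submodule.Quotient.mk_eq_zero _).2
          (Submodule.mem_sup_left (Submodule.mem_span_singleton_self v)), map_zero]
      rw [hc] at this
      exact (mul_eq_zero.1 this).resolve_right hq
    have : ψ = 0 := by
      refine TensorProduct.AlgebraTensorModule.ext fun r q' => ?_
      rw [← mul_one r, ← smul_eq_mul, ← smul_tmul', map_smul, show ψ (1 ⊗ₜ q') = φ q' from rfl, hc, hc0]
      simp
    exact hL (LinearMap.congr_fun this x)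
  let π : R →ₗ[R] QR := LinearMap.toSpanSingleton R QR v
  have hπ : Function.Surjective π := fun x => by
    obtain ⟨r, hr⟩ := Submodule.mem_span_singleton.1 (hv ▸ Submodule.mem_top : x ∈ Submodule.span R {v})
    exact ⟨r, hr⟩
  let a : Ideal R := LinearMap.ker π
  have ha : a ≤ maximalIdeal R := by
    intro r hr
    by_contra hru
    have hu : IsUnit r := by simpa using hru
    have hv0 : v = 0 := by
      have : r • v = 0 := hr
      exact hu.smul_eq_zero.1 this
    refine hq ?_
    have := congrArg (lft φ₀) hv0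
    rw [map_zero] at this
    exact (one_smul R (φ₀ q)).symm.trans this
  let E : QR ≃ₗ[R] R ⧸ a := (π.quotKerEquivOfSurjective hπ).symm
  let φa : Q →ₗ[A] R ⧸ a := (E.toLinearMap.restrictScalars A).comp (TensorProduct.mk A R Q 1)
  have hφa : φa q = 1 := by
    show E v = Ideal.Quotient.mk a 1
    rw [LinearEquiv.symm_apply_eq]
    exact (one_smul R v).symm
  by_cases h0 : a = ⊥
  · let g : Q →ₗ[A] R := ((Submodule.quotEquivOfEqBot a h0).toLinearMap.restrictScalars A).comp φa
    have hg : g q = 1 := by
      show Submodule.quotEquivOfEqBot a h0 (φa q) = 1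
      rw [hφa]
      rfl
    have := Module.finitePresentation_of_finite A Q
    obtain ⟨h, s, hs⟩ := Module.FinitePresentation.exists_lift_of_isLocalizedModule p.primeCompl
      (Algebra.linearMap A R) g
    refine ⟨h, q, fun hp => ?_⟩
    have e : algebraMap A R (h q) = algebraMap A R s := by
      have := LinearMap.congr_fun hs q
      simp only [LinearMap.comp_apply, Algebra.linearMap_apply, _root_.smul_apply, hg] at this
      rw [this]
      show (s : A) • g q = _
      rw [hg, Algebra.smul_def, mul_one]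
    exact s.2 ((IsLocalization.AtPrime.to_map_mem_maximal_iff R p (s : A)).1
      (e ▸ (IsLocalization.AtPrime.to_map_mem_maximal_iff R p (h q)).2 hp))
  · exfalso
    have hfg : a.FG := IsNoetherian.noetherian a
    have hlt : maximalIdeal R • a < a := by
      refine lt_of_le_of_ne Submodule.smul_le_right fun h => h0 ?_
      exact Submodule.eq_bot_of_le_smul_of_le_jacobson_bot _ a hfg h.ge
        (IsLocalRing.maximalIdeal_le_jacobson ⊥)
    obtain ⟨a', ⟨h₁, h₂⟩, hmax⟩ := set_has_maximal_iff_noetherian.2 (inferInstanceAs (IsNoetherian R R))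
      {I : Ideal R | maximalIdeal R • a ≤ I ∧ I < a} ⟨_, le_rfl, hlt⟩
    obtain ⟨t, hta, hta'⟩ := SetLike.exists_of_lt h₂
    have hsup : a' ⊔ Ideal.span {t} = a := by
      rcases (sup_le h₂.le ((Ideal.span_singleton_le_iff_mem a).2 hta)).lt_or_eq with h | h
      · refine absurd ?_ (hmax _ ⟨h₁.trans le_sup_left, h⟩)
        exact lt_of_le_of_ne le_sup_left fun he => hta'
          (he.symm ▸ Ideal.mem_sup_right (Ideal.mem_span_singleton_self t))
      · exact h
    obtain ⟨ψ, hψ⟩ := hlift a a' ha h₂.le t hta hta'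
      (fun r hr => h₁ (Submodule.smul_mem_smul hr hta)) hsup φa (fun h => by
        have := congrFun h q
        simp [hφa] at this)
    let Ψ : QR →ₗ[R] R ⧸ a' := lft ψ
    have h3 : t • Ψ v = 0 := by
      rw [← map_smul, show t • v = 0 from hta, map_zero]
    obtain ⟨w, hw⟩ := Ideal.Quotient.mk_surjective (Ψ v)
    have h4 : w - 1 ∈ a := by
      have h5 := hψ q
      rw [hφa, show ψ q = Ψ v from (one_smul R (ψ q)).symm, ← hw, Ideal.Quotient.factor_mk] at h5
      exact (Ideal.Quotient.eq).1 (h5.trans (map_one (Ideal.Quotient.mk a)).symm)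
    have hwu : IsUnit w := by
      by_contra hw'
      have h6 : (1 : R) ∈ maximalIdeal R := by
        have := (maximalIdeal R).sub_mem ((IsLocalRing.mem_maximalIdeal w).2 hw') (ha h4)
        simpa using this
      exact (maximalIdeal R).ne_top_iff_one.1 (IsLocalRing.maximalIdeal.isMaximal R).ne_top h6
    have h7 : t * w ∈ a' := by
      rw [← hw] at h3
      exact Ideal.Quotient.eq_zero_iff_mem.1 h3
    exact hta' ((Ideal.unit_mul_mem_iff_mem a' hwu).1 (mul_comm t w ▸ h7))

end Groth.Agent.Cube7
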