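import Groth.Agent.Cube7.FibreSections
import Groth.Agent.Cube7.Mumford
import Groth.Agent.Desc59.Pic.VectPush

/-!
Base change in degree zero at a point near which the module has a frame over the base.
-/

set_option autoImplicit false
set_option maxSynthPendingDepth 6
set_option linter.style.haveILetI false
set_option backward.isDefEq.respectTransparency.types false

noncomputable section

universe u

open CategoryTheory Limits AlgebraicGeometry TopologicalSpace Opposite
open Groth.Agent.Var76 Groth.Agent.Var76.LineBundle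

namespace Groth.Agent.Cube7

variable {X Y : Scheme.{u}} (f : X ⟶ Y)

/-- An epimorphic base change map to a fibre with nonzero sections is nonzero. -/
theorem bc0_ne_zero {L : X.Modules} (s : Y) (hnt : ¬ Cube73.NoSec f L s)
    [Epi (CohBC.bc0 f (Y.fromSpecResidueField s) (f.fiberToSpecResidueField s) (f.fiberι s) (f.fiber_fac s) L)] :
    CohBC.bc0 f (Y.fromSpecResidueField s) (f.fiberToSpecResidueField s) (f.fiberι s) (f.fiber_fac s) L ≠ 0 := by
  intro h
  refine hnt ⟨fun p q => ?_⟩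
  let T := (Scheme.Modules.pushforward (f.fiberToSpecResidueField s)).obj ((Scheme.Modules.pullback (f.fiberι s)).obj L)
  have h0 : 𝟙 T = 0 := (cancel_epi (CohBC.bc0 f (Y.fromSpecResidueField s) (f.fiberToSpecResidueField s)
    (f.fiberι s) (f.fiber_fac s) L)).1 (by rw [h, zero_comp, zero_comp])
  have hz : ∀ x : Γ((Scheme.Modules.pullback (f.fiberι s)).obj L, ⊤), x = 0 := fun x =>
    (congrArg (fun t : T ⟶ T => t.app ⊤ x) h0).trans rfl
  rw [hz p, hz q]

/-- A frame over a neighbourhood makes the base change map surjective. -/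
theorem epi_bc0_of_frame {L : X.Modules} {V : Y.Opens} {a : Γ(L, f ⁻¹ᵁ V)} (ha : IsFrame L (f ⁻¹ᵁ V) a)
    {s : Y} (hs : s ∈ V) (hb : Function.Surjective (f.fiberToSpecResidueField s).appTop.hom) :
    Epi (CohBC.bc0 f (Y.fromSpecResidueField s) (f.fiberToSpecResidueField s) (f.fiberι s) (f.fiber_fac s) L) := by
  let g := Y.fromSpecResidueField s
  let q := f.fiberToSpecResidueField s
  let L' := (Scheme.Modules.pullback (f.fiberι s)).obj L
  refine Preadditive.epi_of_cancel_zero _ fun {W} t ht => ?_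
  have h1 : CohBC.bc0Adj f g q (f.fiberι s) (f.fiber_fac s) L ≫ (Scheme.Modules.pushforward g).map t = 0 := by
    have h2 := congrArg ((Scheme.Modules.pullbackPushforwardAdjunction g).homEquiv _ _) ht
    rw [Adjunction.homEquiv_naturality_right] at h2
    rw [CohBC.bc0, Equiv.apply_symm_apply] at h2
    refine h2.trans ?_
    rw [Adjunction.homEquiv_unit, Functor.map_zero, comp_zero]
  let U' := f.fiberι s ⁻¹ᵁ (f ⁻¹ᵁ V)
  have htop : (⊤ : (Spec (Y.residueField s)).Opens) ≤ g ⁻¹ᵁ V := fun v _ => by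
    show g v ∈ V; rw [Scheme.fromSpecResidueField_apply]; exact hs
  have hU : (q ⁻¹ᵁ (⊤ : (Spec (Y.residueField s)).Opens)) ≤ U' := fun v _ => by
    show f (f.fiberι s v) ∈ V
    rw [show f (f.fiberι s v) = s from (f.range_fiberι s).le (Set.mem_range_self v)]; exact hs
  let r : Γ(L', q ⁻¹ᵁ ⊤) := res L' hU (Amp73.pullS (f.fiberι s) L (f ⁻¹ᵁ V) a)
  have hr : IsFrame L' (q ⁻¹ᵁ ⊤) r := (Props58.PullTensor.isFrame_pullS (f.fiberι s) ha).res hU
  have e1 : ∀ (u : Γ(L', q ⁻¹ᵁ (g ⁻¹ᵁ V))),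
      res L' (le_rfl : q ⁻¹ᵁ (g ⁻¹ᵁ V) ≤ q ⁻¹ᵁ (g ⁻¹ᵁ V)) u = u := fun u => Amp73.res_self _ _
  have key : t.app ⊤ (show Γ((Scheme.Modules.pushforward q).obj L', ⊤) from r) = 0 := by
    have h3 : ∀ v : Γ(L', q ⁻¹ᵁ (g ⁻¹ᵁ V)),
        v = ((CohBC.bc0Adj f g q (f.fiberι s) (f.fiber_fac s) L).app V a : Γ(L', q ⁻¹ᵁ (g ⁻¹ᵁ V))) →
        t.app (g ⁻¹ᵁ V) (show Γ((Scheme.Modules.pushforward q).obj L', g ⁻¹ᵁ V) from v) = 0 := by
      rintro _ rfl
      exact congrArg (fun φ => (Scheme.Modules.Hom.app φ V : _ → _) a) h1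
    have h4 := h3 _ rfl
    have h5 := congrArg (fun z => W.presheaf.map (homOfLE htop).op z) h4
    rw [map_zero] at h5
    refine Eq.trans ?_ h5
    refine Eq.trans (congrArg _ ?_)
      (ConcreteCategory.congr_hom (t.mapPresheaf.naturality (homOfLE htop).op) _)
    unfold CohBC.bc0Adj
    show _ = L'.presheaf.map _ ((L'.presheaf.map _) (Amp73.pullS (f.fiberι s) L (f ⁻¹ᵁ V) a))
    rw [← ConcreteCategory.comp_apply, ← Functor.map_comp]
    rfl
  refine Scheme.Modules.hom_ext _ _ fun O => ConcreteCategory.hom_ext _ _ fun x => ?_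
  show t.app O x = 0
  by_cases hO : (⊤ : (Spec (Y.residueField s)).Opens) ≤ O
  · have hOeq : O = ⊤ := top_le_iff.1 hO
    subst hOeq
    obtain ⟨c, hc⟩ := (hr _ le_rfl).2 x
    dsimp only at hc
    rw [Amp73.res_self] at hc
    obtain ⟨d, hd⟩ := hb c
    have : x = d • (show Γ((Scheme.Modules.pushforward q).obj L', ⊤) from r) := by
      rw [← hc, ← hd]; rfl
    rw [this, Scheme.Modules.Hom.app_smul, key, smul_zero]
  · have hbot : O ≤ ⊥ := fun p hp => (hO fun p' _ => by
      haveI : Subsingleton ↥(Spec (Y.residueField s)) := inferInstanceAs (Subsingleton (PrimeSpectrum (Y.residueField s)))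
      rwa [Subsingleton.elim p' p]).elim
    exact Var76.ZeroScheme.eq_of_locally W _ _ fun p hp => (hbot hp).elim

end Groth.Agent.Cube7
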