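import Groth.Agent.Cube7.FibreClosed
import Groth.Agent.Cube7.Seesaw
import Groth.Prelude.Def_CohBC2

/-!
From a nonzero base change map in degree zero to a frame near a fibre on which a module is trivial.
-/

set_option autoImplicit false
set_option maxSynthPendingDepth 6
set_option linter.style.haveILetI false
set_option backward.isDefEq.respectTransparency.types false

noncomputable section

universe u

open CategoryTheory Limits AlgebraicGeometry TopologicalSpace Opposite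
open Groth.Agent.Var76 Groth.Agent.Var76.LineBundle

namespace Groth.Agent.Cube7

variable {X Y : Scheme.{u}}

/-- A frame after pulling back is a frame near the image. -/
theorem exists_isFrame_of_pullS {F : Scheme.{u}} (ι : F ⟶ X) {L : X.Modules} (hL : PicF.IsInvertible L)
    {U : X.Opens} {a : Γ(L, U)} (hfr : IsFrame ((Scheme.Modules.pullback ι).obj L) (ι ⁻¹ᵁ U) (Amp73.pullS ι L U a))
    (v : F) (hv : ι v ∈ U) : ∃ (W : X.Opens) (hW : W ≤ U), ι v ∈ W ∧ IsFrame L W (res L hW a) := by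
  obtain ⟨U₀, hxU, e, he⟩ := Mero90.exists_frame' hL (ι v)
  let W := U₀ ⊓ U
  have heW := he.res (inf_le_left : W ≤ U₀)
  obtain ⟨c, hc⟩ := (heW W le_rfl).2 (res L (inf_le_right : W ≤ U) a)
  dsimp only at hc
  rw [LineBundle.res_res] at hc
  let e' := res L (inf_le_left : W ≤ U₀) e
  have h1 := hfr.res (ι.preimage_mono (inf_le_right : W ≤ U))
  rw [Amp73.res_pullS (h := (inf_le_right : W ≤ U))] at h1
  have h2 : Amp73.pullS ι L W (res L (inf_le_right : W ≤ U) a) = ι.app W c • Amp73.pullS ι L W e' :=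
    (congrArg (Amp73.pullS ι L W) hc.symm).trans (Amp73.pullS_smul ι L W c _)
  rw [h2] at h1
  have hu := (Amp73.isFrame_smul_iff (Props58.PullTensor.isFrame_pullS ι heW) _).1 h1
  have hvB : ι v ∈ X.basicOpen c := by
    have : v ∈ F.basicOpen (ι.app W c) := by rw [Scheme.basicOpen_of_isUnit _ hu]; exact ⟨hxU, hv⟩
    rw [← Scheme.preimage_basicOpen] at this
    exact this
  refine ⟨X.basicOpen c, (X.basicOpen_le c).trans inf_le_right, hvB, ?_⟩
  have hcB : res L ((X.basicOpen_le c).trans inf_le_right : X.basicOpen c ≤ U) a =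
      X.presheaf.map (homOfLE (X.basicOpen_le c)).op c • res L ((X.basicOpen_le c).trans inf_le_left) e := by
    have h3 := congrArg (res L (X.basicOpen_le c)) hc
    rw [LineBundle.res_smul, LineBundle.res_res, LineBundle.res_res] at h3
    exact h3.symm
  rw [hcB]
  exact (Amp73.isFrame_smul_iff (he.res _) _).2 (RingedSpace.isUnit_res_basicOpen _ c)

variable (f : X ⟶ Y) [IsProper f]

/-- A section which is a frame on a fibre is a frame over a neighbourhood of the point. -/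
theorem exists_frame_nhd_of_fibre {L : X.Modules} (hL : PicF.IsInvertible L) {V : Y.Opens} {a : Γ(L, f ⁻¹ᵁ V)}
    {s : Y} (hs : s ∈ V)
    (hfr : IsFrame ((Scheme.Modules.pullback (f.fiberι s)).obj L) (f.fiberι s ⁻¹ᵁ (f ⁻¹ᵁ V))
      (Amp73.pullS (f.fiberι s) L (f ⁻¹ᵁ V) a)) :
    ∃ V' : Y.Opens, s ∈ V' ∧ ∃ e : Γ(L, f ⁻¹ᵁ V'), IsFrame L (f ⁻¹ᵁ V') e := by
  let O : X.Opens := sSup {W | ∃ hW : W ≤ f ⁻¹ᵁ V, IsFrame L W (res L hW a)}
  have hO : O ≤ f ⁻¹ᵁ V := sSup_le fun W hW => hW.1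
  have hfO : IsFrame L O (res L hO a) := Amp73.isFrame_of_locally _ fun x hx => by
    obtain ⟨W, hW, hxW⟩ := Opens.mem_sSup.1 hx
    refine ⟨W, le_sSup hW, hxW, ?_⟩
    rw [LineBundle.res_res]
    exact hW.2
  let V' : Y.Opens := ⟨(f '' (O : Set X)ᶜ)ᶜ, (f.isClosedMap _ O.2.isClosed_compl).isOpen_compl⟩
  have hV' : f ⁻¹ᵁ V' ≤ O := fun x hx => by
    by_contra hxO
    exact hx ⟨x, hxO, rfl⟩
  refine ⟨V', ?_, _, hfO.res hV'⟩
  rintro ⟨x, hxO, hxs⟩
  obtain ⟨v, rfl⟩ : ∃ v, f.fiberι s v = x := by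
    have : x ∈ Set.range (f.fiberι s) := by rw [f.range_fiberι s]; exact hxs
    exact this
  have hvV : f.fiberι s v ∈ f ⁻¹ᵁ V := by show f (f.fiberι s v) ∈ V; rw [hxs]; exact hs
  obtain ⟨W, hW, hvW, hf⟩ := exists_isFrame_of_pullS (f.fiberι s) hL hfr v hvV
  exact hxO (Opens.mem_sSup.2 ⟨W, ⟨hW, hf⟩, hvW⟩)

/-- A nonzero base change map to a trivial fibre gives a frame near the fibre. -/
theorem exists_frame_nhd_of_bc0 {L : X.Modules} (hL : PicF.IsInvertible L) (s : Y)
    (hfld : IsField Γ(f.fiber s, ⊤)) [Nonempty ↥(f.fiber s)]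
    (htriv : Nonempty ((Scheme.Modules.pullback (f.fiberι s)).obj L ≅ Coh.structureModule (f.fiber s)))
    (hne : CohBC.bc0 f (Y.fromSpecResidueField s) (f.fiberToSpecResidueField s) (f.fiberι s) (f.fiber_fac s) L ≠ 0) :
    ∃ V' : Y.Opens, s ∈ V' ∧ ∃ e : Γ(L, f ⁻¹ᵁ V'), IsFrame L (f ⁻¹ᵁ V') e := by
  have hadj : CohBC.bc0Adj f (Y.fromSpecResidueField s) (f.fiberToSpecResidueField s) (f.fiberι s) (f.fiber_fac s) L ≠ 0 := by
    intro h
    exact hne (by rw [CohBC.bc0, h, Adjunction.homEquiv_counit, Functor.map_zero, zero_comp])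
  obtain ⟨V, a, ha⟩ : ∃ (V : Y.Opens) (a : Γ(L, f ⁻¹ᵁ V)), Amp73.pullS (f.fiberι s) L (f ⁻¹ᵁ V) a ≠ 0 := by
    by_contra h
    push Not at h
    refine hadj (Scheme.Modules.hom_ext _ _ fun V => ConcreteCategory.hom_ext _ _ fun a => ?_)
    unfold CohBC.bc0Adj
    show _ = (0 : _)
    refine Eq.trans ?_ (map_zero (((Scheme.Modules.pushforwardComp (f.fiberι s) f).hom.app _ ≫
      (Scheme.Modules.pushforwardCongr (f.fiber_fac s)).hom.app _ ≫
      (Scheme.Modules.pushforwardComp (f.fiberToSpecResidueField s) (Y.fromSpecResidueField s)).inv.app _).app V).hom)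
    exact congrArg _ (h V a)
  let F := f.fiber s
  let L' := (Scheme.Modules.pullback (f.fiberι s)).obj L
  let U' := f.fiberι s ⁻¹ᵁ (f ⁻¹ᵁ V)
  have hmem : ∀ v : F, (v ∈ U' ↔ s ∈ V) := fun v => by
    show f (f.fiberι s v) ∈ V ↔ _
    rw [show f (f.fiberι s v) = s from (f.range_fiberι s).le (Set.mem_range_self v)]
  have hs : s ∈ V := by
    by_contra hs
    have hbot : U' ≤ ⊥ := fun v hv => (hs ((hmem v).1 hv)).elim
    haveI : Subsingleton Γ(L', U') := by
      refine ⟨fun p q => Var76.ZeroScheme.eq_of_locally L' _ _ fun v hv => (hbot hv).elim⟩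
    exact ha (Subsingleton.elim _ _)
  have htop : (⊤ : F.Opens) ≤ U' := fun v _ => (hmem v).2 hs
  have hU : U' ≤ ⊤ := le_top
  let r : Γ(L', ⊤) := res L' htop (Amp73.pullS (f.fiberι s) L (f ⁻¹ᵁ V) a)
  have hr : res L' hU r = Amp73.pullS (f.fiberι s) L (f ⁻¹ᵁ V) a := by
    rw [LineBundle.res_res]; exact Amp73.res_self _ _
  have hr0 : r ≠ 0 := fun h => ha (by rw [← hr, h]; exact map_zero (L'.presheaf.map (homOfLE hU).op).hom)
  obtain ⟨i⟩ := htriv
  have hir : i.hom.app ⊤ r ≠ 0 := fun h => hr0 ((ConcreteCategory.bijective_of_isIso (i.hom.app ⊤)).1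
    (h.trans (map_zero (i.hom.app ⊤).hom).symm))
  have hu : IsUnit (show Γ(F, ⊤) from i.hom.app ⊤ r) := by
    letI := hfld.toField
    exact isUnit_iff_ne_zero.2 hir
  have hfr : IsFrame L' ⊤ r := by
    refine (Amp73.isFrame_app_iff i.hom r).1 ?_
    have h1 := (Amp73.isFrame_smul_iff (Amp73.isFrame_one (X := F) ⊤) (show Γ(F, ⊤) from i.hom.app ⊤ r)).2 hu
    have h2 : (show Γ(F, ⊤) from i.hom.app ⊤ r) • (1 : Γ(F, ⊤)) = (show Γ(F, ⊤) from i.hom.app ⊤ r) := mul_one _
    exact (congrArg (fun t => IsFrame (Coh.structureModule F) ⊤ t) h2).mp h1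
  have h3 := hfr.res hU
  rw [hr] at h3
  exact exists_frame_nhd_of_fibre f hL hs h3

/-- The zeroth cohomology of a trivial fibre is a line. -/
theorem fiberRank_eq_one (s : Y) (hb : Function.Bijective (f.fiberToSpecResidueField s).appTop.hom)
    [Nonempty ↥(f.fiber s)] {L : X.Modules}
    (htriv : Nonempty ((Scheme.Modules.pullback (f.fiberι s)).obj L ≅ Coh.structureModule (f.fiber s))) :
    CohIII.fiberRank f L 0 s = 1 := by
  obtain ⟨i⟩ := htriv
  let M := CohIII.fiberMod f L s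
  haveI : Nontrivial Γ(f.fiber s, ⊤) := by
    obtain ⟨x⟩ := (inferInstance : Nonempty ↥(f.fiber s))
    exact ((f.fiber s).presheaf.germ ⊤ x trivial).hom.domain_nontrivial
  letI : (f.fiber s).Over (Spec (CommRingCat.of (Y.residueField s))) := ⟨f.fiberToSpecResidueField s⟩
  let φ : CohIII.fiberH f L s 0 → Γ(f.fiber s, ⊤) := fun x => i.hom.app ⊤ (Crv77.sec M x)
  have hφb : Function.Bijective φ :=
    (ConcreteCategory.bijective_of_isIso (i.hom.app ⊤)).comp (Crv77.sec M).bijective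
  have hφ : ∀ (c : Y.residueField s) (x : CohIII.fiberH f L s 0),
      φ (c • x) = algebraMap (Y.residueField s) Γ(f.fiber s, ⊤) c * φ x := by
    intro c x
    refine (congrArg (fun t => i.hom.app ⊤ t) (Crv77.sec_smul (Y.residueField s) M c x)).trans ?_
    exact Scheme.Modules.Hom.app_smul i.hom _ _
  have hsurj : Function.Surjective (algebraMap (Y.residueField s) Γ(f.fiber s, ⊤)) :=
    hb.2.comp (ConcreteCategory.bijective_of_isIso (Scheme.ΓSpecIso (Y.residueField s)).inv).2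
  obtain ⟨v, hv⟩ := hφb.2 1
  rw [CohIII.fiberRank]
  refine finrank_eq_one v (fun h => ?_) fun w => ?_
  · have : φ 0 = 0 := (congrArg (fun t => i.hom.app ⊤ t) (map_zero (Crv77.sec M))).trans (map_zero (i.hom.app ⊤).hom)
    rw [h, this] at hv
    exact zero_ne_one hv
  · obtain ⟨c, hc⟩ := hsurj (φ w)
    exact ⟨c, hφb.1 (by rw [hφ, hv, mul_one, hc])⟩

end Groth.Agent.Cube7
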