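import Groth.Agent.Cube7.Seesaw
import Mathlib.RingTheory.Jacobson.Ring
import Mathlib.FieldTheory.IsAlgClosed.Basic
import Mathlib.AlgebraicGeometry.AlgClosed.Basic

/-! Constant functions on fibres spread to generisations. -/

set_option autoImplicit false
set_option maxSynthPendingDepth 6
set_option synthInstance.maxHeartbeats 200000
set_option linter.style.haveILetI false
set_option backward.isDefEq.respectTransparency.types false

universe u

noncomputable section

open CategoryTheory CategoryTheory.Limits AlgebraicGeometry TopologicalSpace Opposite TensorProduct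

namespace Groth.Agent.Cube7

open QC70 FF71 Mum71 AbSch7

variable {A : Type u} [CommRing A] [IsNoetherianRing A] {X : Scheme.{u}} [X.Over (Spec (CommRingCat.of A))]
  [IsProper (X ↘ Spec (CommRingCat.of A))] [Flat (X ↘ Spec (CommRingCat.of A))]

/-- Constant functions on the fibre at `m` give constant functions at generisations. -/
theorem appTop_bijective_of_spec (m : Ideal A) [m.IsPrime] (Km : Type u) [Field Km] [Algebra A Km]
    (hm : RingHom.ker (algebraMap A Km) = m)
    (h0 : Function.Bijective (bc A X Km ↘ Spec (CommRingCat.of Km)).appTop)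
    (K : Type u) [Field K] [Algebra A K] (hK : RingHom.ker (algebraMap A K) ≤ m) [Nonempty (bc A X K)] :
    Function.Bijective (bc A X K ↘ Spec (CommRingCat.of K)).appTop := by
  haveI : CompactSpace X := QuasiCompact.compactSpace_of_compactSpace (X ↘ Spec (CommRingCat.of A))
  haveI : IsLocallyNoetherian X := LocallyOfFiniteType.isLocallyNoetherian (X ↘ Spec (CommRingCat.of A))
  have hL : PicF.IsInvertible (Om X) := EGA73.isInvertible_structureModule
  haveI : (Om X).IsQuasicoherent := Mero90.isQCoh_of_isInvertible hL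
  obtain ⟨ι, _, U, hU₁, hU⟩ := exists_cover X
  have hU₂ : ∀ i j, IsAffineOpen (U i ⊓ U j) := fun i j =>
    affine_inter (X ↘ Spec (CommRingCat.of A)) (hU₁ i) (hU₁ j)
  obtain ⟨Q, hQ, e, he⟩ := exists_corep_fam (A := A) (Om X) hU hU₁ hU₂ (Crv77.isCoh_of_isInvertible hL)
    (isFlatOver_of_isInvertible _ hL)
  haveI := hQ
  have hnat : ∀ {M M' : Type u} [AddCommGroup M] [Module A M] [AddCommGroup M'] [Module A M']
      (g : M →ₗ[A] M') (φ : Q →ₗ[A] M),
      e (ModuleCat.of A M') (g ∘ₗ φ) = famMap (Om X) U g (e (ModuleCat.of A M) φ) :=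
    fun g φ => he (ModuleCat.of A _) (ModuleCat.of A _) (ModuleCat.ofHom g) φ
  have hzero : ∀ {M : Type u} [AddCommGroup M] [Module A M], e (ModuleCat.of A M) 0 = 0 := by
    intro M _ _
    have := hnat (0 : M →ₗ[A] M) (0 : Q →ₗ[A] M)
    rw [LinearMap.zero_comp] at this
    rw [this]
    exact Subtype.ext (funext fun i => by rw [famMap_val, LinearMap.lTensor_zero]; rfl)
  haveI hne_m : Nonempty (bc A X Km) := by
    by_contra hne
    rw [not_nonempty_iff] at hne
    have : Subsingleton Γ(bc A X Km, ⊤) := inferInstance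
    have := h0.1.subsingleton
    exact false_of_nontrivial_of_subsingleton Γ(Spec (CommRingCat.of Km), ⊤)
  obtain ⟨xb, hxb0, hall, -⟩ := exists_fibre_gen (Om X) hU hU₁ hU₂ Km hL h0
    (PicLoc.pullbackStructureIso (bcπ A X Km))
  let φ₀ : Q →ₗ[A] Km := (e (ModuleCat.of A Km)).symm xb
  have hφ₀ : e (ModuleCat.of A Km) φ₀ = xb := (e (ModuleCat.of A Km)).apply_symm_apply xb
  have hne : φ₀ ≠ 0 := fun h => hxb0 hne_m (by rw [← hφ₀, h]; exact hzero)
  obtain ⟨q₀, hq₀⟩ : ∃ q, φ₀ q ≠ 0 := by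
    by_contra h
    push Not at h
    exact hne (LinearMap.ext h)
  have hgen := exists_gen_at m Km hm φ₀ q₀ hq₀ fun φ => by
    obtain ⟨c, hc⟩ := hall (e (ModuleCat.of A Km) φ)
    refine ⟨c, (e (ModuleCat.of A Km)).injective ?_⟩
    rw [hc, show c • φ₀ = LinearMap.mulLeft A c ∘ₗ φ₀ from LinearMap.ext fun _ => rfl, hnat, hφ₀]
  let T := bc A X K
  obtain ⟨E, hE, hEres⟩ := exists_famEquiv (A := A) (Om X) K hU hU₁ hU₂
  let G := bcMod (A := A) (Om X) K
  let eT : G ≅ Coh.structureModule T := PicLoc.pullbackStructureIso (bcπ A X K)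
  let S : TopCat.Sheaf AddCommGrpCat.{u} T := ⟨G.presheaf, G.isSheaf⟩
  have hcov : (⊤ : T.Opens) ≤ ⨆ i, bcπ A X K ⁻¹ᵁ U i := by rw [← Scheme.Hom.preimage_iSup, hU]; rfl
  have hEmul : ∀ (k : K) (z : Fam A (Om X) U K),
      E (famMap (Om X) U (LinearMap.mulLeft A k) z) = rA K T ⊤ k • E z := by
    intro k z
    refine TopCat.Sheaf.eq_of_locally_eq' S (fun i => bcπ A X K ⁻¹ᵁ U i) ⊤ (fun _ => homOfLE le_top) hcov _ _
      fun i => ?_
    show QC70.res G le_top (E _) = QC70.res G le_top (rA K T ⊤ k • E z)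
    rw [QC70.res_smul, resO_rA, hEres, hEres]
    exact bcMap_mulLeft (Om X) (hU₁ i) k (z.1 i)
  let e₀ : Γ(G, ⊤) := eT.inv.app ⊤ (show Γ(Coh.structureModule T, ⊤) from (1 : Γ(T, ⊤)))
  have he₀ : eT.hom.app ⊤ e₀ = (show Γ(Coh.structureModule T, ⊤) from (1 : Γ(T, ⊤))) :=
    ConcreteCategory.congr_hom (congrArg (fun q => Scheme.Modules.Hom.app q ⊤) eT.inv_hom_id) _
  obtain ⟨z₁, hz₁⟩ := hE.2 e₀
  obtain ⟨x⟩ := ‹Nonempty (bc A X K)›
  haveI : Nonempty (⊤ : T.Opens) := ⟨⟨x, trivial⟩⟩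
  let φ₁ := (e (ModuleCat.of A K)).symm z₁
  have hφ₁e : e (ModuleCat.of A K) φ₁ = z₁ := (e (ModuleCat.of A K)).apply_symm_apply z₁
  have hφ₁ : φ₁ ≠ 0 := by
    intro h
    have h1 : e₀ = 0 := by
      refine TopCat.Sheaf.eq_of_locally_eq' S (fun i => bcπ A X K ⁻¹ᵁ U i) ⊤ (fun _ => homOfLE le_top) hcov _ _
        fun i => ?_
      show QC70.res G le_top e₀ = QC70.res G le_top 0
      rw [← hz₁, hEres, ← hφ₁e, h, hzero]
      exact (map_zero _).trans (map_zero (G.presheaf.map (homOfLE (le_top : bcπ A X K ⁻¹ᵁ U i ≤ ⊤)).op).hom).symm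
    have h2 : (0 : Γ(T, ⊤)) = 1 := by
      rw [h1, map_zero] at he₀
      exact he₀
    exact zero_ne_one h2
  constructor
  · exact RingHom.injective (f := (T ↘ Spec (CommRingCat.of K)).appTop.hom.comp
      (Scheme.ΓSpecIso (CommRingCat.of K)).inv.hom) |> fun h => by
        intro a b hab
        obtain ⟨a, rfl⟩ := (ConcreteCategory.bijective_of_isIso (Scheme.ΓSpecIso (CommRingCat.of K)).inv).2 a
        obtain ⟨b, rfl⟩ := (ConcreteCategory.bijective_of_isIso (Scheme.ΓSpecIso (CommRingCat.of K)).inv).2 b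
        exact congrArg _ (h hab)
  · intro s
    let σ : Γ(G, ⊤) := eT.inv.app ⊤ (show Γ(Coh.structureModule T, ⊤) from s)
    obtain ⟨z, hz⟩ := hE.2 σ
    obtain ⟨c, hc⟩ := multiples_of_gen' m q₀ hgen K hK φ₁ hφ₁ ((e (ModuleCat.of A K)).symm z)
    refine ⟨(Scheme.ΓSpecIso (CommRingCat.of K)).inv c, ?_⟩
    have hσ : σ = rA K T ⊤ c • e₀ := by
      rw [← hz, ← hz₁, ← hEmul]
      congr 1
      rw [← (e (ModuleCat.of A K)).apply_symm_apply z, hc,
        show c • φ₁ = LinearMap.mulLeft A c ∘ₗ φ₁ from LinearMap.ext fun _ => rfl, hnat, hφ₁e]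
    have h1 := congrArg (eT.hom.app ⊤) hσ
    rw [Scheme.Modules.Hom.app_smul, he₀] at h1
    have h2 : s = rA K T ⊤ c * 1 := (ConcreteCategory.congr_hom
      (congrArg (fun q => Scheme.Modules.Hom.app q ⊤) eT.inv_hom_id) _).symm.trans h1
    rw [h2, mul_one]
    refine Eq.trans ?_ (congrArg (fun φ => φ c) (rA_eq_appLE K T ⊤)).symm
    exact (ConcreteCategory.congr_hom (AbSch7.appLE_top (T ↘ Spec (CommRingCat.of K)) le_top) _).symm

end Groth.Agent.Cube7
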