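import Mathlib.LinearAlgebra.TensorProduct.Basis
import Mathlib.LinearAlgebra.TensorProduct.RightExactness
import Mathlib.LinearAlgebra.Dimension.Free
import Mathlib.LinearAlgebra.Basis.VectorSpace
import Mathlib.Algebra.Order.Group.Nat
import Mathlib.Tactic.Abel

/-! The degree one Künneth argument for product covers, over a field, for abstract presheaves on semilattices:
a cocycle whose restrictions to two axes are coboundaries is a coboundary. -/

set_option autoImplicit false

universe u

noncomputable section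

open TensorProduct

namespace Groth.Agent.Cube7

variable {K : Type*} [Field K]

/-- Contraction of the first factor. -/
def contrL {M N : Type*} [AddCommGroup M] [Module K M] [AddCommGroup N] [Module K N] (μ : M →ₗ[K] K) :
    M ⊗[K] N →ₗ[K] N :=
  (TensorProduct.lid K N).toLinearMap ∘ₗ μ.rTensor N

/-- Contraction of the second factor. -/
def contrR {M N : Type*} [AddCommGroup M] [Module K M] [AddCommGroup N] [Module K N] (μ : N →ₗ[K] K) :
    M ⊗[K] N →ₗ[K] M :=
  (TensorProduct.rid K M).toLinearMap ∘ₗ μ.lTensor M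

@[simp] lemma contrL_tmul {M N : Type*} [AddCommGroup M] [Module K M] [AddCommGroup N] [Module K N]
    (μ : M →ₗ[K] K) (x : M) (y : N) : contrL μ (x ⊗ₜ y) = μ x • y := rfl

@[simp] lemma contrR_tmul {M N : Type*} [AddCommGroup M] [Module K M] [AddCommGroup N] [Module K N]
    (μ : N →ₗ[K] K) (x : M) (y : N) : contrR μ (x ⊗ₜ y) = μ y • x := rfl

lemma eq_zero_of_contrR {M N : Type*} [AddCommGroup M] [Module K M] [AddCommGroup N] [Module K N]
    (z : M ⊗[K] N) (h : ∀ μ : N →ₗ[K] K, contrR μ z = 0) : z = 0 := by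
  classical
  obtain ⟨B⟩ : Nonempty (Module.Basis (Module.Free.ChooseBasisIndex K N) K N) := ⟨Module.Free.chooseBasis K N⟩
  apply (TensorProduct.equivFinsuppOfBasisRight B).injective
  rw [map_zero]
  ext i
  refine Eq.trans ?_ (h (B.coord i))
  clear h
  induction z using TensorProduct.induction_on with
  | zero => simp
  | add x y hx hy => simp only [map_add, Finsupp.add_apply, hx, hy]
  | tmul x y => simp [Finsupp.mapRange_apply]

lemma eq_zero_of_contrL {M N : Type*} [AddCommGroup M] [Module K M] [AddCommGroup N] [Module K N]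
    (z : M ⊗[K] N) (h : ∀ μ : M →ₗ[K] K, contrL μ z = 0) : z = 0 := by
  apply (TensorProduct.comm K M N).injective
  rw [map_zero]
  refine eq_zero_of_contrR _ fun μ => Eq.trans ?_ (h μ)
  clear h
  induction z using TensorProduct.induction_on with
  | zero => simp
  | add x y hx hy => simp only [map_add, hx, hy]
  | tmul x y => simp

lemma mem_range_rTensor_of_contrL {M M' N : Type*} [AddCommGroup M] [Module K M] [AddCommGroup M'] [Module K M']
    [AddCommGroup N] [Module K N] (D : M' →ₗ[K] M) (z : M ⊗[K] N)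
    (h : ∀ μ : M →ₗ[K] K, μ ∘ₗ D = 0 → contrL μ z = 0) : z ∈ LinearMap.range (D.rTensor N) := by
  have hex : Function.Exact D (LinearMap.range D).mkQ := LinearMap.exact_map_mkQ_range D
  refine (rTensor_exact N hex (Submodule.mkQ_surjective _) z).1 (eq_zero_of_contrL _ fun μ => ?_)
  refine Eq.trans ?_ (h (μ ∘ₗ (LinearMap.range D).mkQ) ?_)
  · clear h
    induction z using TensorProduct.induction_on with
    | zero => simp
    | add x y hx hy => simp only [map_add, hx, hy]
    | tmul x y => simp
  · rw [LinearMap.comp_assoc, hex.linearMap_comp_eq_zero, LinearMap.comp_zero]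

variable {P : Type*} [SemilatticeInf P] {Q : Type*} [SemilatticeInf Q]

/-- A presheaf of vector spaces on a semilattice with a distinguished global section. -/
structure Sys (K : Type*) [Field K] (P : Type*) [SemilatticeInf P] where
  /-- Sections. -/
  obj : P → Type u
  [acg : ∀ p, AddCommGroup (obj p)]
  [mdl : ∀ p, Module K (obj p)]
  /-- Restriction. -/
  res : ∀ {p q : P}, q ≤ p → (obj p →ₗ[K] obj q)
  res_res : ∀ {p q q' : P} (h : q ≤ p) (h' : q' ≤ q) (x : obj p), res h' (res h x) = res (h'.trans h) x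
  res_self : ∀ {p : P} (x : obj p), res (le_refl p) x = x
  /-- The unit. -/
  one : ∀ p, obj p
  res_one : ∀ {p q : P} (h : q ≤ p), res h (one p) = one q

attribute [local instance] Sys.acg Sys.mdl

variable (R : Sys.{u} K P) (S : Sys.{u} K Q)

/-- Restriction of both factors. -/
def rho {p p' : P} {q q' : Q} (h : p' ≤ p) (k : q' ≤ q) :
    R.obj p ⊗[K] S.obj q →ₗ[K] R.obj p' ⊗[K] S.obj q' :=
  TensorProduct.map (R.res h) (S.res k)

@[simp] lemma rho_tmul {p p' : P} {q q' : Q} (h : p' ≤ p) (k : q' ≤ q) (x : R.obj p) (y : S.obj q) :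
    rho R S h k (x ⊗ₜ y) = R.res h x ⊗ₜ S.res k y := rfl

lemma rho_rho {p p' p'' : P} {q q' q'' : Q} (h : p' ≤ p) (k : q' ≤ q) (h' : p'' ≤ p') (k' : q'' ≤ q')
    (z : R.obj p ⊗[K] S.obj q) : rho R S h' k' (rho R S h k z) = rho R S (h'.trans h) (k'.trans k) z := by
  induction z using TensorProduct.induction_on with
  | zero => simp
  | add x y hx hy => simp only [map_add, hx, hy]
  | tmul x y => simp only [rho_tmul, R.res_res, S.res_res]

lemma rho_self {p : P} {q : Q} (z : R.obj p ⊗[K] S.obj q) : rho R S le_rfl le_rfl z = z := by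
  induction z using TensorProduct.induction_on with
  | zero => simp
  | add x y hx hy => simp only [map_add, hx, hy]
  | tmul x y => simp only [rho_tmul, R.res_self, S.res_self]

variable {ι : Type*} {κ : Type*} (U : ι → P) (V : κ → Q)

/-- Only constants are compatible families. -/
def Sys.HasConst : Prop :=
  ∀ z : ∀ a, R.obj (U a), (∀ a a', R.res (inf_le_left : U a ⊓ U a' ≤ U a) (z a) =
    R.res (inf_le_right : U a ⊓ U a' ≤ U a') (z a')) → ∃ m : K, ∀ a, z a = m • R.one (U a)

lemma exists_const_tensor {a₀ : ι} (ε : R.obj (U a₀) →ₗ[K] K) (hε : ε (R.one (U a₀)) = 1)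
    (hR : R.HasConst U) {W : Type*} [AddCommGroup W] [Module K W] (z : ∀ a, R.obj (U a) ⊗[K] W)
    (hz : ∀ a a', (R.res (inf_le_left : U a ⊓ U a' ≤ U a)).rTensor W (z a) =
      (R.res (inf_le_right : U a ⊓ U a' ≤ U a')).rTensor W (z a')) :
    ∀ a, z a = R.one (U a) ⊗ₜ contrL ε (z a₀) := by
  intro a
  refine sub_eq_zero.1 (eq_zero_of_contrR _ fun μ => ?_)
  have nat : ∀ {p p' : P} (h : p' ≤ p) (w : R.obj p ⊗[K] W),
      contrR μ ((R.res h).rTensor W w) = R.res h (contrR μ w) := by
    intro p p' h w
    induction w using TensorProduct.induction_on with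
    | zero => simp
    | add x y hx hy => simp only [map_add, hx, hy]
    | tmul x y => simp
  obtain ⟨m, hm⟩ := hR (fun a => contrR μ (z a)) fun a a' => by rw [← nat, ← nat, hz]
  have hc : μ (contrL ε (z a₀)) = ε (contrR μ (z a₀)) := by
    generalize z a₀ = w
    induction w using TensorProduct.induction_on with
    | zero => simp
    | add x y hx hy => simp only [map_add, hx, hy]
    | tmul x y => simp [mul_comm]
  rw [map_sub, contrR_tmul, hc, hm a₀, map_smul, hε, hm a, smul_eq_mul, mul_one, sub_self]

/-- Only constants are compatible families on the product cover. -/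
theorem exists_const_prod {a₀ : ι} (ε : R.obj (U a₀) →ₗ[K] K) (hε : ε (R.one (U a₀)) = 1)
    (hR : R.HasConst U) (hS : S.HasConst V) (z : ∀ a b, R.obj (U a) ⊗[K] S.obj (V b))
    (hz : ∀ a b a' b', rho R S (inf_le_left : U a ⊓ U a' ≤ U a) (inf_le_left : V b ⊓ V b' ≤ V b) (z a b) =
      rho R S (inf_le_right : U a ⊓ U a' ≤ U a') (inf_le_right : V b ⊓ V b' ≤ V b') (z a' b')) :
    ∃ m : K, ∀ a b, z a b = m • (R.one (U a) ⊗ₜ S.one (V b)) := by
  have hmap : ∀ {p p' : P} {q : Q} (h : p' ≤ p) (w : R.obj p ⊗[K] S.obj q),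
      (R.res h).rTensor (S.obj q) w = rho R S h le_rfl w := by
    intro p p' q h w
    induction w using TensorProduct.induction_on with
    | zero => simp
    | add x y hx hy => simp only [map_add, hx, hy]
    | tmul x y => simp [S.res_self]
  have h1 : ∀ a b, z a b = R.one (U a) ⊗ₜ contrL ε (z a₀ b) := fun a b =>
    exists_const_tensor R U ε hε hR (fun a => z a b) (fun a a' => by
      rw [hmap, hmap]
      have h := congrArg (rho R S (le_refl (U a ⊓ U a')) (le_inf le_rfl le_rfl : V b ≤ V b ⊓ V b)) (hz a b a' b)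
      rwa [rho_rho, rho_rho] at h) a
  obtain ⟨m, hm⟩ := hS (fun b => contrL ε (z a₀ b)) fun b b' => by
    have h := congrArg (fun w => contrL ε (rho R S (le_inf le_rfl le_rfl : U a₀ ≤ U a₀ ⊓ U a₀) le_rfl w))
      (hz a₀ b a₀ b')
    simp only [rho_rho] at h
    rw [h1 a₀ b, h1 a₀ b', rho_tmul, rho_tmul, R.res_one, contrL_tmul, contrL_tmul, hε, one_smul, one_smul] at h
    exact h
  exact ⟨m, fun a b => by rw [h1, hm, TensorProduct.tmul_smul]⟩

variable [Finite ι]

/-- **Künneth in degree one**: a cocycle on the product cover whose restrictions to the two axes are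
coboundaries is a coboundary. -/
theorem exists_cobound {a₀ : ι} (ε : R.obj (U a₀) →ₗ[K] K) (hε : ε (R.one (U a₀)) = 1)
    {b₀ : κ} (ε' : S.obj (V b₀) →ₗ[K] K) (hε' : ε' (S.one (V b₀)) = 1)
    (hR : R.HasConst U) (hS : S.HasConst V)
    (c : ∀ a b a' b', R.obj (U a ⊓ U a') ⊗[K] S.obj (V b ⊓ V b'))
    (hc : ∀ a b a' b' a'' b'',
      rho R S (inf_le_left : U a ⊓ U a' ⊓ U a'' ≤ U a ⊓ U a') (inf_le_left : V b ⊓ V b' ⊓ V b'' ≤ V b ⊓ V b')
          (c a b a' b') +
        rho R S (le_inf (inf_le_left.trans inf_le_right) inf_le_right : U a ⊓ U a' ⊓ U a'' ≤ U a' ⊓ U a'')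
          (le_inf (inf_le_left.trans inf_le_right) inf_le_right : V b ⊓ V b' ⊓ V b'' ≤ V b' ⊓ V b'')
          (c a' b' a'' b'') =
      rho R S (le_inf (inf_le_left.trans inf_le_left) inf_le_right : U a ⊓ U a' ⊓ U a'' ≤ U a ⊓ U a'')
          (le_inf (inf_le_left.trans inf_le_left) inf_le_right : V b ⊓ V b' ⊓ V b'' ≤ V b ⊓ V b'')
          (c a b a'' b''))
    (hX : ∃ h : ∀ a, R.obj (U a), ∀ a a',
      contrR (ε' ∘ₗ S.res (le_inf le_rfl le_rfl : V b₀ ≤ V b₀ ⊓ V b₀)) (c a b₀ a' b₀) =
        R.res inf_le_left (h a) - R.res inf_le_right (h a'))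
    (hY : ∃ h : ∀ b, S.obj (V b), ∀ b b',
      contrL (ε ∘ₗ R.res (le_inf le_rfl le_rfl : U a₀ ≤ U a₀ ⊓ U a₀)) (c a₀ b a₀ b') =
        S.res inf_le_left (h b) - S.res inf_le_right (h b')) :
    ∃ e : ∀ a b, R.obj (U a) ⊗[K] S.obj (V b), ∀ a b a' b', c a b a' b' =
      rho R S inf_le_left inf_le_left (e a b) - rho R S inf_le_right inf_le_right (e a' b') := by
  classical
  cases nonempty_fintype ι
  have hc' : ∀ (a : ι) (b : κ) (a' : ι) (b' : κ) (a'' : ι) (b'' : κ) (p : P) (q : Q) (h₁ : p ≤ U a)
      (h₂ : p ≤ U a') (h₃ : p ≤ U a'') (k₁ : q ≤ V b) (k₂ : q ≤ V b') (k₃ : q ≤ V b''),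
      rho R S (le_inf h₁ h₂) (le_inf k₁ k₂) (c a b a' b') + rho R S (le_inf h₂ h₃) (le_inf k₂ k₃) (c a' b' a'' b'') =
        rho R S (le_inf h₁ h₃) (le_inf k₁ k₃) (c a b a'' b'') := by
    intro a b a' b' a'' b'' p q h₁ h₂ h₃ k₁ k₂ k₃
    have h := congrArg (rho R S (le_inf (le_inf h₁ h₂) h₃) (le_inf (le_inf k₁ k₂) k₃)) (hc a b a' b' a'' b'')
    rwa [map_add, rho_rho, rho_rho, rho_rho] at h
  -- first step: split along the first factor over each `V b`
  let C : Type _ := ∀ p : ι × ι, R.obj (U p.1 ⊓ U p.2)
  let D : (∀ a, R.obj (U a)) →ₗ[K] C := LinearMap.pi fun p =>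
    R.res inf_le_left ∘ₗ LinearMap.proj p.1 - R.res inf_le_right ∘ₗ LinearMap.proj p.2
  have hext : ∀ {W : Type u} [AddCommGroup W] [Module K W] (w w' : C ⊗[K] W),
      (∀ p, (LinearMap.proj p : C →ₗ[K] _).rTensor W w = (LinearMap.proj p : C →ₗ[K] _).rTensor W w') → w = w' := by
    intro W _ _ w w' h
    have hid : ∀ w : C ⊗[K] W, w = ∑ p, ((LinearMap.single K _ p : _ →ₗ[K] C).rTensor W)
        ((LinearMap.proj p : C →ₗ[K] _).rTensor W w) := by
      intro w
      induction w using TensorProduct.induction_on with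
      | zero => simp
      | add x y hx hy =>
        simp only [map_add, Finset.sum_add_distrib]
        exact congrArg₂ (· + ·) hx hy
      | tmul x y =>
        simp only [LinearMap.rTensor_tmul, LinearMap.proj_apply, ← TensorProduct.sum_tmul]
        exact congrArg (· ⊗ₜ y) (Finset.univ_sum_single x).symm
    rw [hid w, hid w']
    exact Finset.sum_congr rfl fun p _ => by rw [h p]
  let cb : ∀ (b : κ) (p : ι × ι), R.obj (U p.1 ⊓ U p.2) ⊗[K] S.obj (V b) := fun b p =>
    rho R S le_rfl (le_inf le_rfl le_rfl) (c p.1 b p.2 b)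
  let Z : ∀ b, C ⊗[K] S.obj (V b) := fun b =>
    ∑ p, (LinearMap.single K _ p : _ →ₗ[K] C).rTensor _ (cb b p)
  have hZ : ∀ b p, (LinearMap.proj p : C →ₗ[K] _).rTensor _ (Z b) = cb b p := by
    intro b p
    simp only [Z, map_sum, ← LinearMap.rTensor_comp_apply]
    rw [Finset.sum_eq_single p]
    · rw [LinearMap.proj_comp_single_same, LinearMap.rTensor_id, LinearMap.id_apply]
    · intro p' _ hp
      rw [LinearMap.proj_comp_single_ne K _ p p' hp.symm, LinearMap.rTensor_zero, LinearMap.zero_apply]
    · exact fun h => absurd (Finset.mem_univ p) h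
  have hnat : ∀ {q q' : Q} (k : q' ≤ q) (μ : C →ₗ[K] K) (w : C ⊗[K] S.obj q),
      contrL μ ((S.res k).lTensor C w) = S.res k (contrL μ w) := by
    intro q q' k μ w
    induction w using TensorProduct.induction_on with
    | zero => simp
    | add x y hx hy => simp only [map_add, hx, hy]
    | tmul x y => simp
  have hmem : ∀ b, Z b ∈ LinearMap.range (D.rTensor (S.obj (V b))) := by
    refine fun b => mem_range_rTensor_of_contrL D (Z b) fun μ hμ => ?_
    obtain ⟨m, hm⟩ := hS (fun b => contrL μ (Z b)) fun b b' => by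
      let w : (∀ a, R.obj (U a)) ⊗[K] S.obj (V b ⊓ V b') :=
        ∑ a, (LinearMap.single K _ a : _ →ₗ[K] (∀ a, R.obj (U a))).rTensor _
          (rho R S (le_inf le_rfl le_rfl : U a ≤ U a ⊓ U a) le_rfl (c a b a b'))
      have hw : ∀ a, (LinearMap.proj a : (∀ a, R.obj (U a)) →ₗ[K] _).rTensor _ w =
          rho R S (le_inf le_rfl le_rfl : U a ≤ U a ⊓ U a) le_rfl (c a b a b') := by
        intro a
        simp only [w, map_sum, ← LinearMap.rTensor_comp_apply]
        rw [Finset.sum_eq_single a]
        · rw [LinearMap.proj_comp_single_same, LinearMap.rTensor_id, LinearMap.id_apply]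
        · intro a' _ ha
          rw [LinearMap.proj_comp_single_ne K _ a a' ha.symm, LinearMap.rTensor_zero, LinearMap.zero_apply]
        · exact fun h => absurd (Finset.mem_univ a) h
      have key : (S.res inf_le_left).lTensor C (Z b) - (S.res inf_le_right).lTensor C (Z b') = D.rTensor _ w := by
        refine hext _ _ fun p => ?_
        have hl : ∀ (b : κ) (q : Q) (k : q ≤ V b), (LinearMap.proj p : C →ₗ[K] _).rTensor _
            ((S.res k).lTensor C (Z b)) = rho R S le_rfl (le_inf k k) (c p.1 b p.2 b) := by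
          intro b q k
          rw [← LinearMap.comp_apply, LinearMap.rTensor_comp_lTensor, ← LinearMap.lTensor_comp_rTensor,
            LinearMap.comp_apply, hZ]
          have : ∀ v : R.obj (U p.1 ⊓ U p.2) ⊗[K] S.obj (V b),
              (S.res k).lTensor _ v = rho R S le_rfl k v := by
            intro v
            induction v using TensorProduct.induction_on with
            | zero => simp
            | add x y hx hy => simp only [map_add, hx, hy]
            | tmul x y => simp [R.res_self]
          rw [this, rho_rho]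
        have hd : ∀ {a : ι} (h : U p.1 ⊓ U p.2 ≤ U a),
            (R.res h).rTensor _ ((LinearMap.proj a : (∀ a, R.obj (U a)) →ₗ[K] _).rTensor _ w) =
              rho R S (le_inf h h) le_rfl (c a b a b') := by
          intro a h
          rw [hw]
          have : ∀ v : R.obj (U a) ⊗[K] S.obj (V b ⊓ V b'), (R.res h).rTensor _ v = rho R S h le_rfl v := by
            intro v
            induction v using TensorProduct.induction_on with
            | zero => simp
            | add x y hx hy => simp only [map_add, hx, hy]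
            | tmul x y => simp [S.res_self]
          rw [this, rho_rho]
        rw [map_sub, hl, hl, ← LinearMap.rTensor_comp_apply, LinearMap.proj_pi, LinearMap.rTensor_sub,
          LinearMap.sub_apply, LinearMap.rTensor_comp_apply, LinearMap.rTensor_comp_apply, hd, hd,
          sub_eq_sub_iff_add_eq_add]
        rw [show rho R S _ _ (c p.1 b p.2 b) + rho R S _ _ (c p.2 b p.2 b') =
              rho R S (le_refl (U p.1 ⊓ U p.2)) (le_refl (V b ⊓ V b')) (c p.1 b p.2 b') from
            hc' p.1 b p.2 b p.2 b' _ _ inf_le_left inf_le_right inf_le_right inf_le_left inf_le_left inf_le_right,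
          show rho R S _ _ (c p.1 b p.1 b') + rho R S _ _ (c p.1 b' p.2 b') =
              rho R S (le_refl (U p.1 ⊓ U p.2)) (le_refl (V b ⊓ V b')) (c p.1 b p.2 b') from
            hc' p.1 b p.1 b' p.2 b' _ _ inf_le_left inf_le_left inf_le_right inf_le_left inf_le_right inf_le_right]
      rw [← hnat, ← hnat, ← sub_eq_zero, ← map_sub, key]
      generalize w = v
      induction v using TensorProduct.induction_on with
      | zero => simp
      | add x y hx hy => simp only [map_add, hx, hy, add_zero]
      | tmul x y =>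
        rw [LinearMap.rTensor_tmul, contrL_tmul, ← LinearMap.comp_apply, hμ, LinearMap.zero_apply, zero_smul]
    obtain ⟨h, hh⟩ := hX
    have hm0 : m = 0 := by
      have h1 : ε' (contrL μ (Z b₀)) = μ (contrR ε' (Z b₀)) := by
        generalize Z b₀ = v
        induction v using TensorProduct.induction_on with
        | zero => simp
        | add x y hx hy => simp only [map_add, hx, hy]
        | tmul x y => simp [mul_comm]
      have h2 : contrR ε' (Z b₀) = D h := by
        funext p
        have h3 : ∀ v : C ⊗[K] S.obj (V b₀), (LinearMap.proj p : C →ₗ[K] _) (contrR ε' v) =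
            contrR ε' ((LinearMap.proj p : C →ₗ[K] _).rTensor _ v) := by
          intro v
          induction v using TensorProduct.induction_on with
          | zero => simp only [map_zero]
          | add x y hx hy => simp only [map_add, hx, hy]
          | tmul x y => rw [contrR_tmul, map_smul, LinearMap.rTensor_tmul, contrR_tmul]
        show (LinearMap.proj p : C →ₗ[K] _) (contrR ε' (Z b₀)) = _
        rw [h3, hZ]
        show contrR ε' (rho R S le_rfl (le_inf le_rfl le_rfl) (c p.1 b₀ p.2 b₀)) = _
        refine Eq.trans ?_ (hh p.1 p.2)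
        generalize c p.1 b₀ p.2 b₀ = v'
        clear h3
        induction v' using TensorProduct.induction_on with
        | zero => simp
        | add x y hx hy => simp only [map_add, hx, hy]
        | tmul x y => simp [R.res_self]
      rw [hm b₀, map_smul, hε', smul_eq_mul, mul_one, h2, ← LinearMap.comp_apply, hμ] at h1
      exact h1
    rw [hm b, hm0, zero_smul]
  choose w hw using hmem
  let e : ∀ a b, R.obj (U a) ⊗[K] S.obj (V b) := fun a b =>
    (LinearMap.proj a : (∀ a, R.obj (U a)) →ₗ[K] _).rTensor _ (w b)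
  have he : ∀ a a' b, rho R S le_rfl (le_inf le_rfl le_rfl) (c a b a' b) =
      rho R S (inf_le_left : U a ⊓ U a' ≤ U a) le_rfl (e a b) -
        rho R S (inf_le_right : U a ⊓ U a' ≤ U a') le_rfl (e a' b) := by
    intro a a' b
    have h := congrArg ((LinearMap.proj (a, a') : C →ₗ[K] _).rTensor _) (hw b)
    rw [hZ, ← LinearMap.rTensor_comp_apply, LinearMap.proj_pi, LinearMap.rTensor_sub, LinearMap.sub_apply,
      LinearMap.rTensor_comp_apply, LinearMap.rTensor_comp_apply] at h
    have hr : ∀ {p' : P} (a : ι) (h : p' ≤ U a) (v : R.obj (U a) ⊗[K] S.obj (V b)),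
        (R.res h).rTensor _ v = rho R S h le_rfl v := by
      intro p' a h v
      induction v using TensorProduct.induction_on with
      | zero => simp
      | add x y hx hy => simp only [map_add, hx, hy]
      | tmul x y => simp [S.res_self]
    rw [hr a inf_le_left, hr a' inf_le_right] at h
    exact h.symm
  -- second step: glue along the first factor
  obtain ⟨h, hh⟩ := hY
  let g : ∀ b b', R.obj (U a₀) ⊗[K] S.obj (V b ⊓ V b') := fun b b' =>
    rho R S (le_inf le_rfl le_rfl : U a₀ ≤ U a₀ ⊓ U a₀) le_rfl (c a₀ b a₀ b') -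
      (rho R S le_rfl inf_le_left (e a₀ b) - rho R S le_rfl inf_le_right (e a₀ b'))
  let k : ∀ b, S.obj (V b) := fun b => h b - contrL ε (e a₀ b)
  have hg : ∀ a b b', rho R S (le_inf le_rfl le_rfl : U a ≤ U a ⊓ U a) le_rfl (c a b a b') -
      (rho R S le_rfl inf_le_left (e a b) - rho R S le_rfl inf_le_right (e a b')) =
        R.one (U a) ⊗ₜ (S.res inf_le_left (k b) - S.res inf_le_right (k b')) := by
    intro a b b'
    have hz := exists_const_tensor R U ε hε hR (W := S.obj (V b ⊓ V b'))
      (fun a => rho R S (le_inf le_rfl le_rfl : U a ≤ U a ⊓ U a) le_rfl (c a b a b') -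
        (rho R S le_rfl inf_le_left (e a b) - rho R S le_rfl inf_le_right (e a b'))) (fun a a' => by
      have hr : ∀ {a : ι} {p' : P} (h : p' ≤ U a) (v : R.obj (U a) ⊗[K] S.obj (V b ⊓ V b')),
          (R.res h).rTensor _ v = rho R S h le_rfl v := by
        intro a p' h v
        induction v using TensorProduct.induction_on with
        | zero => simp
        | add x y hx hy => simp only [map_add, hx, hy]
        | tmul x y => simp [S.res_self]
      rw [hr, hr]
      simp only [map_sub, rho_rho]
      have e1 := congrArg (rho R S (le_refl (U a ⊓ U a')) (inf_le_left : V b ⊓ V b' ≤ V b)) (he a a' b)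
      have e2 := congrArg (rho R S (le_refl (U a ⊓ U a')) (inf_le_right : V b ⊓ V b' ≤ V b')) (he a a' b')
      simp only [map_sub, rho_rho] at e1 e2
      have c1 := hc' a b a' b a' b' (U a ⊓ U a') (V b ⊓ V b') inf_le_left inf_le_right inf_le_right
        inf_le_left inf_le_left inf_le_right
      have c2 := hc' a b a b' a' b' (U a ⊓ U a') (V b ⊓ V b') inf_le_left inf_le_left inf_le_right
        inf_le_left inf_le_right inf_le_right
      rw [e1] at c1
      rw [e2] at c2
      rw [← c2] at c1
      rw [← sub_eq_zero] at c1 ⊢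
      refine Eq.trans ?_ (neg_eq_zero.2 c1)
      abel) a
    refine hz.trans (congrArg (R.one (U a) ⊗ₜ ·) ?_)
    have hcl : ∀ {q q' : Q} (hq : q' ≤ q) (v : R.obj (U a₀) ⊗[K] S.obj q),
        contrL ε (rho R S le_rfl hq v) = S.res hq (contrL ε v) := by
      intro q q' hq v
      induction v using TensorProduct.induction_on with
      | zero => simp
      | add x y hx hy => simp only [map_add, hx, hy]
      | tmul x y => simp [R.res_self]
    have h0 : contrL ε (rho R S (le_inf le_rfl le_rfl : U a₀ ≤ U a₀ ⊓ U a₀) le_rfl (c a₀ b a₀ b')) =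
        S.res inf_le_left (h b) - S.res inf_le_right (h b') := by
      refine Eq.trans ?_ (hh b b')
      generalize c a₀ b a₀ b' = v
      induction v using TensorProduct.induction_on with
      | zero => simp
      | add x y hx hy => simp only [map_add, hx, hy]
      | tmul x y => simp [S.res_self]
    simp only [map_sub, hcl, h0, k]
    abel
  refine ⟨fun a b => e a b + R.one (U a) ⊗ₜ k b, fun a b a' b' => ?_⟩
  have c1 := hc' a b a b' a' b' (U a ⊓ U a') (V b ⊓ V b') inf_le_left inf_le_left inf_le_right
    inf_le_left inf_le_right inf_le_right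
  have e1 := congrArg (rho R S (inf_le_left : U a ⊓ U a' ≤ U a) (le_refl (V b ⊓ V b'))) (hg a b b')
  have e2 := congrArg (rho R S (le_refl (U a ⊓ U a')) (inf_le_right : V b ⊓ V b' ≤ V b')) (he a a' b')
  simp only [map_sub, rho_rho, rho_tmul, R.res_one, S.res_self, TensorProduct.tmul_sub] at e1 e2
  rw [e2, sub_eq_iff_eq_add.1 e1, rho_self] at c1
  simp only [map_add, rho_tmul, R.res_one]
  rw [← c1]
  abel

end Groth.Agent.Cube7
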