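import Groth.Agent.Cube7.CubeGroup

/-!
Pullback of an invertible module along multiplication by an integer on an abelian scheme.
-/

set_option autoImplicit false
set_option maxSynthPendingDepth 6
set_option backward.isDefEq.respectTransparency.types false

noncomputable section

universe u

open CategoryTheory CategoryTheory.Limits MonoidalCategory CartesianMonoidalCategory MonObj GrpObj AlgebraicGeometry
open Groth.Agent.Cube7.PicCalc

namespace Groth.Agent.Cube7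

variable {S : Scheme.{u}} (X : Over S) [GrpObj X] [IsProper X.hom] [Flat X.hom] [LocallyOfFinitePresentation X.hom]
  [GeometricallyReduced X.hom] [GeometricallyConnected X.hom] (l : PicLoc.PicSet X.left)

/-- The class of the pullback along multiplication by `n`. -/
def mulCls (n : ℤ) : PicLoc.PicSet X.left := pt X l (𝟙 X ^ n)

theorem mulCls_rec (n : ℤ) :
    mulCls X l (n + 1) * mulCls X l (n - 1) * (mulCls X l 0 * mulCls X l 0) =
      mulCls X l n * mulCls X l n * (mulCls X l 1 * mulCls X l (-1)) := by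
  have h := cubeCl_eq_one X l (𝟙 X ^ n) (𝟙 X ^ (1 : ℤ)) (𝟙 X ^ (-1 : ℤ))
  have e1 : (𝟙 X ^ n) * 𝟙 X ^ (1 : ℤ) * 𝟙 X ^ (-1 : ℤ) = 𝟙 X ^ n := by
    rw [← zpow_add, ← zpow_add, add_neg_cancel_right]
  have e2 : (𝟙 X ^ n) * 𝟙 X ^ (1 : ℤ) = 𝟙 X ^ (n + 1) := (zpow_add _ _ _).symm
  have e3 : (𝟙 X ^ n) * 𝟙 X ^ (-1 : ℤ) = 𝟙 X ^ (n - 1) := (zpow_add _ _ _).symm
  have e4 : (𝟙 X ^ (1 : ℤ)) * 𝟙 X ^ (-1 : ℤ) = 1 := by rw [← zpow_add, add_neg_cancel, zpow_zero]
  rw [cubeCl, div_eq_one, e1, e2, e3, e4] at h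
  simp only [mulCls, zpow_zero]
  calc _ = pt X l (𝟙 X ^ (n + 1)) * pt X l (𝟙 X ^ (n - 1)) * pt X l 1 * pt X l 1 := by ac_rfl
    _ = _ := h.symm
    _ = _ := by ac_rfl

/-- Pullback along multiplication by `n` in terms of the pullbacks along `1`, `-1` and `0`. -/
theorem mulCls_eq (n : ℤ) :
    mulCls X l n = mulCls X l 1 ^ ((n ^ 2 + n) / 2) * mulCls X l (-1) ^ ((n ^ 2 - n) / 2) *
      mulCls X l 0 ^ (1 - n ^ 2) := by
  set a := mulCls X l 1 with ha
  set b := mulCls X l (-1) with hb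
  set c := mulCls X l 0 with hc
  let F : ℤ → PicLoc.PicSet X.left := fun m =>
    a ^ ((m ^ 2 + m) / 2) * b ^ ((m ^ 2 - m) / 2) * c ^ (1 - m ^ 2)
  show _ = F n
  have hF : ∀ m : ℤ, F (m + 1) * F (m - 1) * (c * c) = F m * F m * (a * b) := by
    intro m
    have i1 : ((m + 1) ^ 2 + (m + 1)) / 2 = (m ^ 2 + m) / 2 + (m + 1) := by
      rw [show (m + 1) ^ 2 + (m + 1) = m ^ 2 + m + (m + 1) * 2 by ring, Int.add_mul_ediv_right _ _ two_ne_zero]
    have i2 : ((m - 1) ^ 2 + (m - 1)) / 2 = (m ^ 2 + m) / 2 + -m := by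
      rw [show (m - 1) ^ 2 + (m - 1) = m ^ 2 + m + -m * 2 by ring, Int.add_mul_ediv_right _ _ two_ne_zero]
    have i3 : ((m + 1) ^ 2 - (m + 1)) / 2 = (m ^ 2 - m) / 2 + m := by
      rw [show (m + 1) ^ 2 - (m + 1) = m ^ 2 - m + m * 2 by ring, Int.add_mul_ediv_right _ _ two_ne_zero]
    have i4 : ((m - 1) ^ 2 - (m - 1)) / 2 = (m ^ 2 - m) / 2 + (1 - m) := by
      rw [show (m - 1) ^ 2 - (m - 1) = m ^ 2 - m + (1 - m) * 2 by ring, Int.add_mul_ediv_right _ _ two_ne_zero]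
    simp only [F]
    rw [i1, i2, i3, i4, show 1 - (m + 1) ^ 2 = (1 - m ^ 2) + (-(2 * m) - 1) by ring,
      show 1 - (m - 1) ^ 2 = (1 - m ^ 2) + (2 * m - 1) by ring]
    generalize (m ^ 2 + m) / 2 = P, (m ^ 2 - m) / 2 = Q, 1 - m ^ 2 = R
    generalize ha' : a = a', hb' : b = b', hc' : c = c'
    have : a' ^ (P + (m + 1)) * b' ^ (Q + m) * c' ^ (R + (-(2 * m) - 1)) *
        (a' ^ (P + -m) * b' ^ (Q + (1 - m)) * c' ^ (R + (2 * m - 1))) * (c' ^ (1 : ℤ) * c' ^ (1 : ℤ)) =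
        a' ^ P * b' ^ Q * c' ^ R * (a' ^ P * b' ^ Q * c' ^ R) * (a' ^ (1 : ℤ) * b' ^ (1 : ℤ)) := by
      apply Additive.ofMul.injective
      simp only [ofMul_mul, ofMul_zpow]
      module
    simpa only [zpow_one] using this
  have h0 : mulCls X l 0 = F 0 := by simp [F, hc]
  have h1 : mulCls X l 1 = F 1 := by simp [F, ha]
  suffices h : ∀ m : ℤ, mulCls X l m = F m ∧ mulCls X l (m + 1) = F (m + 1) from (h n).1
  intro m
  induction m using Int.induction_on with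
  | zero => exact ⟨h0, h1⟩
  | succ i ih =>
    refine ⟨ih.2, ?_⟩
    have h := mulCls_rec X l ((i : ℤ) + 1)
    rw [add_sub_cancel_right, ih.1, ih.2, ← hc, ← ha, ← hb] at h
    have h' := hF ((i : ℤ) + 1)
    rw [add_sub_cancel_right] at h'
    exact mul_right_cancel (mul_right_cancel (h.trans h'.symm))
  | pred i ih =>
    refine ⟨?_, by rw [sub_add_cancel]; exact ih.1⟩
    have h := mulCls_rec X l (-(i : ℤ))
    rw [ih.1, ih.2, ← hc, ← ha, ← hb] at h
    exact mul_left_cancel (mul_right_cancel (h.trans (hF (-(i : ℤ))).symm))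

theorem mulCls_one : mulCls X l 1 = l := by
  rw [mulCls, zpow_one, pt, Over.id_left, pb_id]

theorem mulCls_zero : mulCls X l 0 = pb X.hom (pb η[X].left l) := by
  rw [mulCls, zpow_zero, pt, one_left, pb_comp]

theorem cls_tensorPow_toNat {Y : Scheme.{u}} {L : Y.Modules} (hL : PicF.IsInvertible L) {n : ℤ} (hn : 0 ≤ n) :
    PicGrp.cls _ (EGA73.isInvertible_tensorPow hL n.toNat) = PicGrp.cls L hL ^ n := by
  rw [cls_tensorPow, ← zpow_natCast, Int.toNat_of_nonneg hn]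

theorem nonneg_add (n : ℤ) : 0 ≤ (n ^ 2 + n) / 2 :=
  Int.ediv_nonneg (by rcases le_or_gt 0 n with h | h <;> nlinarith) (by norm_num)

theorem nonneg_sub (n : ℤ) : 0 ≤ (n ^ 2 - n) / 2 :=
  Int.ediv_nonneg (by rcases le_or_gt n 0 with h | h <;> nlinarith) (by norm_num)

end Groth.Agent.Cube7
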