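import Groth.Agent.Mum71.GlobalCorep
import Groth.Agent.Mum71.TensorA
import Groth.Agent.FlatMor68.FlatSections

/-! Sections of `F ⊗_A M` as compatible families over a finite affine cover, and their corepresentability. -/

set_option autoImplicit false
set_option maxSynthPendingDepth 6
set_option synthInstance.maxHeartbeats 200000
set_option linter.style.haveILetI false
set_option backward.isDefEq.respectTransparency.types false

universe u

noncomputable section

open CategoryTheory CategoryTheory.Limits AlgebraicGeometry TopologicalSpace Opposite TensorProduct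

namespace Groth.Agent.Cube7

open QC70 FF71 Mum71 Serre71

variable {A : Type u} [CommRing A] {X : Scheme.{u}} [X.Over (Spec (CommRingCat.of A))]
  (F : X.Modules) {ι : Type u} (U : ι → X.Opens)

/-- Restriction as an `A`-linear map. -/
def resL {V W : X.Opens} (h : W ≤ V) : Γ(F, V) →ₗ[A] Γ(F, W) where
  toFun := QC70.res F h
  map_add' x y := map_add _ x y
  map_smul' a x := by
    show QC70.res F h (rA A X V a • x) = rA A X W a • QC70.res F h x
    rw [QC70.res_smul, resO_rA]

/-- Restriction after tensoring. -/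
abbrev resT {V W : X.Opens} (h : W ≤ V) (M : Type u) [AddCommGroup M] [Module A M] :
    Γ(F, V) ⊗[A] M →ₗ[A] Γ(F, W) ⊗[A] M :=
  (resL F h).rTensor M

lemma resT_resT {V W W' : X.Opens} (h : W ≤ V) (h' : W' ≤ W) (M : Type u) [AddCommGroup M] [Module A M]
    (z : Γ(F, V) ⊗[A] M) : resT F h' M (resT F h M z) = resT F (h'.trans h) M z := by
  induction z using TensorProduct.induction_on with
  | zero => simp only [map_zero]
  | add x y hx hy => simp only [map_add, hx, hy]
  | tmul x m => exact congrArg (· ⊗ₜ m) (QC70.res_res h h' x)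

variable (A) in
/-- Compatible families of sections of `F ⊗_A M` over the cover. -/
def Fam (M : Type u) [AddCommGroup M] [Module A M] :
    Submodule A ((i : ι) → Γ(F, U i) ⊗[A] M) where
  carrier := {x | ∀ i j, resT F (inf_le_left : U i ⊓ U j ≤ U i) M (x i) =
    resT F (inf_le_right : U i ⊓ U j ≤ U j) M (x j)}
  add_mem' {x y} hx hy i j := by
    simp only [Pi.add_apply, map_add, hx i j, hy i j]
  zero_mem' i j := by simp only [Pi.zero_apply, map_zero]
  smul_mem' a x hx i j := by
    simp only [Pi.smul_apply, map_smul, hx i j]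

/-- Functoriality in the coefficient module. -/
def famMap {M M' : Type u} [AddCommGroup M] [Module A M] [AddCommGroup M'] [Module A M'] (g : M →ₗ[A] M')
    (x : Fam A F U M) : Fam A F U M' :=
  ⟨fun i => g.lTensor _ (x.1 i), fun i j => by
    have h := congrArg (g.lTensor _) (x.2 i j)
    rw [← LinearMap.comp_apply, ← LinearMap.comp_apply, LinearMap.lTensor_comp_rTensor,
      LinearMap.lTensor_comp_rTensor, ← LinearMap.rTensor_comp_lTensor,
      ← LinearMap.rTensor_comp_lTensor] at h
    exact h⟩

lemma famMap_val {M M' : Type u} [AddCommGroup M] [Module A M] [AddCommGroup M'] [Module A M']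
    (g : M →ₗ[A] M') (x : Fam A F U M) (i : ι) : (famMap F U g x).1 i = g.lTensor _ (x.1 i) := rfl

variable {U} (hU : ⨆ i, U i = ⊤) (hU₁ : ∀ i, IsAffineOpen (U i))
  (hU₂ : ∀ i j, IsAffineOpen (U i ⊓ U j)) [F.IsQuasicoherent]

/-- The family attached to a global section. -/
def toFam (M : ModuleCat.{u} A) (z : Γ(tA F M, ⊤)) : Fam A F U M :=
  ⟨fun i => (AddEquiv.ofBijective _ (tMap_bijective (hU₁ i) F M)).symm
      (QC70.res (tA F M) le_top z), fun i j => by
    apply (tMap_bijective (hU₂ i j) F M).1
    have key : ∀ {V W : X.Opens} (h : W ≤ V) (y : Γ(F, V) ⊗[A] M),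
        tMap F M W (resT F h M y) = QC70.res (tA F M) h (tMap F M V y) := by
      intro V W h y
      induction y using TensorProduct.induction_on with
      | zero => simp only [map_zero]
      | add a b ha hb => simp only [map_add, ha, hb, QC70.res]
      | tmul a m => exact tMap_res F M h a m
    rw [key, key]
    erw [AddEquiv.ofBijective_apply_symm_apply (tMap F M (U i)) (tMap_bijective (hU₁ i) F M),
      AddEquiv.ofBijective_apply_symm_apply (tMap F M (U j)) (tMap_bijective (hU₁ j) F M)]
    rw [QC70.res_res, QC70.res_res]⟩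

lemma tMap_toFam (M : ModuleCat.{u} A) (z : Γ(tA F M, ⊤)) (i : ι) :
    tMap F M (U i) ((toFam F hU₁ hU₂ M z).1 i) = QC70.res (tA F M) le_top z :=
  AddEquiv.ofBijective_apply_symm_apply (tMap F M (U i)) (tMap_bijective (hU₁ i) F M)

include hU in
theorem toFam_bijective (M : ModuleCat.{u} A) : Function.Bijective (toFam F hU₁ hU₂ M) := by
  let S : TopCat.Sheaf AddCommGrpCat.{u} X := ⟨(tA F M).presheaf, (tA F M).isSheaf⟩
  constructor
  · intro z z' h
    refine TopCat.Sheaf.eq_of_locally_eq' S U ⊤ (fun i => homOfLE le_top) hU.ge z z' fun i => ?_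
    have := congrArg (fun w : Fam A F U M => tMap F M (U i) (w.1 i)) h
    rw [tMap_toFam, tMap_toFam] at this
    exact this
  · intro x
    have key : ∀ {V W : X.Opens} (h : W ≤ V) (y : Γ(F, V) ⊗[A] M),
        tMap F M W (resT F h M y) = QC70.res (tA F M) h (tMap F M V y) := by
      intro V W h y
      induction y using TensorProduct.induction_on with
      | zero => simp only [map_zero]
      | add a b ha hb => simp only [map_add, ha, hb, QC70.res]
      | tmul a m => exact tMap_res F M h a m
    obtain ⟨z, hz, -⟩ := TopCat.Sheaf.existsUnique_gluing' S U ⊤ (fun i => homOfLE le_top) hU.ge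
      (fun i => tMap F M (U i) (x.1 i)) (fun i j => by
        show QC70.res (tA F M) (inf_le_left : U i ⊓ U j ≤ U i) _ =
          QC70.res (tA F M) (inf_le_right : U i ⊓ U j ≤ U j) _
        rw [← key, ← key, x.2 i j])
    refine ⟨z, Subtype.ext (funext fun i => (tMap_bijective (hU₁ i) F M).1 ?_)⟩
    rw [tMap_toFam]
    exact hz i

omit [F.IsQuasicoherent] in
include hU hU₁ hU₂ in
/-- Compatible families are corepresented by a finite module. -/
theorem exists_corep_fam [IsNoetherianRing A] [IsProper (X ↘ Spec (CommRingCat.of A))]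
    (hF : Coh.IsCoh F) (hfl : FlatMod.IsFlatOver (X ↘ Spec (CommRingCat.of A)) F) :
    ∃ (Q : ModuleCat.{u} A) (_ : Module.Finite A Q) (e : ∀ M : ModuleCat.{u} A, (Q →ₗ[A] M) ≃ Fam A F U M),
      ∀ (M M' : ModuleCat.{u} A) (g : M ⟶ M') (φ : Q →ₗ[A] M),
        e M' (g.hom ∘ₗ φ) = famMap F U g.hom (e M φ) := by
  haveI := hF.1
  obtain ⟨Q, hQ, ⟨η⟩⟩ := exists_corep F hF hfl
  let e : ∀ M : ModuleCat.{u} A, (Q →ₗ[A] M) ≃ Fam A F U M := fun M =>
    ((ModuleCat.homEquiv (M := Q) (N := M)).symm.trans (η.app M).toLinearEquiv.symm.toEquiv).trans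
      (Equiv.ofBijective (toFam F hU₁ hU₂ M) (toFam_bijective F hU hU₁ hU₂ M))
  refine ⟨Q, hQ, e, fun M M' g φ => Subtype.ext (funext fun i => (tMap_bijective (hU₁ i) F M').1 ?_)⟩
  let zM : Γ(tA F M, ⊤) := (η.inv.app M).hom (ModuleCat.ofHom φ)
  let zM' : Γ(tA F M', ⊤) := (η.inv.app M').hom (ModuleCat.ofHom (g.hom ∘ₗ φ))
  show tMap F M' (U i) ((toFam F hU₁ hU₂ M' zM').1 i) =
    tMap F M' (U i) (g.hom.lTensor _ ((toFam F hU₁ hU₂ M zM).1 i))
  rw [tMap_toFam, ← tMap_natural, tMap_toFam]
  have hz : zM' = ((CohIII.tensorAFunctor A F).map g).app ⊤ zM := by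
    have h1 := congr(($(η.inv.naturality g)).hom (ModuleCat.ofHom φ))
    exact h1
  rw [hz]
  exact (ConcreteCategory.congr_hom
    (((CohIII.tensorAFunctor A F).map g).mapPresheaf.naturality (homOfLE (le_top : U i ≤ ⊤)).op) zM).symm

end Groth.Agent.Cube7
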