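import Groth.Agent.Cube7.H0Spread
import Groth.Agent.Approx60.Segre

/-! Over an algebraically closed field, a proper flat family with integral fibres over a scheme of finite type
has only constant functions on its fibres. -/

set_option autoImplicit false
set_option maxSynthPendingDepth 6
set_option linter.style.haveILetI false
set_option backward.isDefEq.respectTransparency.types false

universe u

noncomputable section

open CategoryTheory CategoryTheory.Limits AlgebraicGeometry TopologicalSpace Opposite

namespace Groth.Agent.Cube7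

open FF71 AbSch7

theorem h0Fib_of_integral_fibres (k : Type u) [Field k] [IsAlgClosed k] {X Y : Scheme.{u}}
    (g : Y ⟶ Spec (CommRingCat.of k)) [LocallyOfFiniteType g] [IsLocallyNoetherian Y]
    (f : X ⟶ Y) [IsProper f] [Flat f] (hint : ∀ y : Y, IsIntegral (f.fiber y)) : H0Fib f := by
  refine H0Fib.of_residueField f fun y => ?_
  obtain ⟨_, ⟨W, hW, rfl⟩, hyW, -⟩ :=
    Y.isBasis_affineOpens.exists_subset_of_mem_open (Set.mem_univ y) isOpen_univ
  haveI : IsNoetherianRing Γ(Y, W) := IsLocallyNoetherian.component_noetherian ⟨W, hW⟩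
  let A := Γ(Y, W)
  let j : Spec (CommRingCat.of A) ⟶ Y := hW.fromSpec
  let X' := pullback f j
  letI ov : X'.Over (Spec (CommRingCat.of A)) := ⟨pullback.snd f j⟩
  haveI : IsProper (X' ↘ Spec (CommRingCat.of A)) := inferInstanceAs (IsProper (pullback.snd f j))
  haveI : Flat (X' ↘ Spec (CommRingCat.of A)) := inferInstanceAs (Flat (pullback.snd f j))
  have hrange : y ∈ Set.range j := by rw [show Set.range j = W from hW.range_fromSpec]; exact hyW
  obtain ⟨w, hw⟩ := hrange
  -- residue field data at a point of the chart
  have data : ∀ v : Spec (CommRingCat.of A), ∃ ψ : CommRingCat.of A ⟶ Y.residueField (j v),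
      Spec.map ψ ≫ j = Y.fromSpecResidueField (j v) ∧ RingHom.ker ψ.hom = v.asIdeal := by
    intro v
    have hsub : Set.range (Y.fromSpecResidueField (j v)) ⊆ Set.range j := by
      rw [Scheme.range_fromSpecResidueField, Set.singleton_subset_iff]
      exact ⟨v, rfl⟩
    let l := IsOpenImmersion.lift j (Y.fromSpecResidueField (j v)) hsub
    have hl : l ≫ j = Y.fromSpecResidueField (j v) := IsOpenImmersion.lift_fac _ _ _
    refine ⟨Spec.preimage l, by rw [Spec.map_preimage, hl], ?_⟩
    let pt : Spec (Y.residueField (j v)) := default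
    have h1 : (l ≫ j) pt = j v := by
      rw [hl]
      exact (Scheme.range_fromSpecResidueField (j v)).le ⟨pt, rfl⟩
    have h2 : l pt = v := j.isOpenEmbedding.injective h1
    have h3 : (Spec.map (Spec.preimage l)) pt = v := by rw [Spec.map_preimage]; exact h2
    refine Eq.trans ?_ (congrArg PrimeSpectrum.asIdeal h3)
    show _ = Ideal.comap (Spec.preimage l).hom pt.asIdeal
    rw [show pt.asIdeal = (⊥ : Ideal (Y.residueField (j v))) from Ideal.eq_bot_of_prime _]
    rfl
  -- the fibre as a base change of the chart
  have fibre : ∀ (v : Spec (CommRingCat.of A)) (ψ : CommRingCat.of A ⟶ Y.residueField (j v)),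
      Spec.map ψ ≫ j = Y.fromSpecResidueField (j v) →
      letI := ψ.hom.toAlgebra
      ∃ e : bc A X' (Y.residueField (j v)) ≅ f.fiber (j v),
        e.hom ≫ f.fiberToSpecResidueField (j v) = bc A X' (Y.residueField (j v)) ↘ Spec (CommRingCat.of (Y.residueField (j v))) := by
    intro v ψ hψ
    letI := ψ.hom.toAlgebra
    have H : IsPullback (bcπ A X' (Y.residueField (j v)) ≫ pullback.fst f j)
        (bc A X' (Y.residueField (j v)) ↘ Spec (CommRingCat.of (Y.residueField (j v)))) f
        (Y.fromSpecResidueField (j v)) := by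
      have := (IsPullback.of_hasPullback (X' ↘ Spec (CommRingCat.of A))
        (Spec.map (CommRingCat.ofHom (algebraMap A (Y.residueField (j v)))))).paste_horiz
        (IsPullback.of_hasPullback f j)
      rw [← hψ]
      exact this
    exact ⟨H.isoPullback, H.isoPullback_hom_snd⟩
  let φ : CommRingCat.of k ⟶ CommRingCat.of A := Spec.preimage (j ≫ g)
  have hft : φ.hom.FiniteType := by
    have : LocallyOfFiniteType (Spec.map φ) := by rw [Spec.map_preimage]; infer_instance
    exact (HasRingHomProperty.Spec_iff (P := @LocallyOfFiniteType)).1 this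
  obtain ⟨m, hm, hle⟩ := Ideal.exists_le_maximal w.asIdeal w.isPrime.ne_top
  let v : Spec (CommRingCat.of A) := ⟨m, hm.isPrime⟩
  obtain ⟨ψm, hψm, hkm⟩ := data v
  -- the closed point has residue field `k`
  have hsurj : Function.Surjective ψm.hom := by
    letI : Field (A ⧸ m) := Ideal.Quotient.field m
    let pt : Spec (CommRingCat.of (A ⧸ m)) := default
    let q : Spec (CommRingCat.of (A ⧸ m)) ⟶ Y := Spec.map (CommRingCat.ofHom (Ideal.Quotient.mk m)) ≫ j
    obtain ⟨⟨p, θ⟩, hpθ⟩ := (Scheme.SpecToEquivOfField (A ⧸ m) Y).symm.surjective q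
    change Spec.map θ ≫ Y.fromSpecResidueField p = q at hpθ
    have hp : p = j v := by
      have h1 : q pt = p := by
        rw [← hpθ]
        exact (Scheme.range_fromSpecResidueField p).le ⟨_, rfl⟩
      rw [← h1]
      show j ((Spec.map (CommRingCat.ofHom (Ideal.Quotient.mk m))) pt) = j v
      congr 1
      refine PrimeSpectrum.ext ?_
      show Ideal.comap (Ideal.Quotient.mk m) pt.asIdeal = m
      rw [show pt.asIdeal = (⊥ : Ideal (A ⧸ m)) from Ideal.eq_bot_of_prime _, ← RingHom.ker_eq_comap_bot,
        Ideal.mk_ker]
    subst hp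
    have hθ : ψm ≫ θ = CommRingCat.ofHom (Ideal.Quotient.mk m) := by
      refine Spec.map_injective ?_
      rw [Spec.map_comp, ← cancel_mono j, Category.assoc, hψm, hpθ]
    intro z
    obtain ⟨a, ha⟩ := Ideal.Quotient.mk_surjective (θ.hom z)
    refine ⟨a, θ.hom.injective ?_⟩
    rw [← ha]
    exact ConcreteCategory.congr_hom hθ a
  haveI hclosed : IsAlgClosed (Y.residueField (j v)) := by
    letI := φ.hom.toAlgebra
    haveI : Algebra.FiniteType k A := hft
    letI := (ψm.hom.comp φ.hom).toAlgebra
    haveI : Algebra.FiniteType k (Y.residueField (j v)) := RingHom.FiniteType.comp_surjective hft hsurj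
    haveI : Module.Finite k (Y.residueField (j v)) := finite_of_finite_type_of_isJacobsonRing k _
    exact IsAlgClosed.of_ringEquiv k _ (RingEquiv.ofBijective _
      (IsAlgClosed.algebraMap_bijective_of_isIntegral (k := k) (K := Y.residueField (j v))))
  -- constant functions at the closed point
  have h0m : letI := ψm.hom.toAlgebra
      Function.Bijective (bc A X' (Y.residueField (j v)) ↘ Spec (CommRingCat.of (Y.residueField (j v)))).appTop := by
    letI := ψm.hom.toAlgebra
    obtain ⟨e, he⟩ := fibre v ψm hψm
    haveI := hint (j v)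
    haveI : Nonempty (bc A X' (Y.residueField (j v))) := ⟨e.inv (Nonempty.some inferInstance)⟩
    haveI : IsIntegral (bc A X' (Y.residueField (j v))) := isIntegral_of_isOpenImmersion e.hom
    exact appTop_bijective_of_isAlgClosed _
  -- spread to the generisation
  obtain ⟨ψ, hψ, hk⟩ := data w
  obtain ⟨e, he⟩ := fibre w ψ hψ
  haveI := hint (j w)
  have key : letI := ψ.hom.toAlgebra
      Function.Bijective (bc A X' (Y.residueField (j w)) ↘ Spec (CommRingCat.of (Y.residueField (j w)))).appTop := by
    letI ialg := ψ.hom.toAlgebra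
    haveI : Nonempty (bc A X' (Y.residueField (j w))) := ⟨e.inv (Nonempty.some inferInstance)⟩
    refine @appTop_bijective_of_spec A _ _ X' _ _ _ m hm.isPrime (Y.residueField (j v)) _ ψm.hom.toAlgebra hkm h0m
      (Y.residueField (j w)) _ ialg (hk.le.trans hle) ‹_›
  have hfin : Function.Bijective (f.fiberToSpecResidueField (j w)).appTop := by
    haveI : IsIso e.hom.appTop := inferInstanceAs (IsIso (Scheme.Γ.map e.hom.op))
    have h2 := key
    rw [← he, Scheme.Hom.comp_appTop] at h2
    exact (Function.Bijective.of_comp_iff' (ConcreteCategory.bijective_of_isIso e.hom.appTop) _).1 h2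
  rw [hw] at hfin
  exact hfin

end Groth.Agent.Cube7
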